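import Cfsg.Agent.Lib.GW.KleinMoved.Star
import Cfsg.Agent.Lib.ZStar.KleinBlock
import Cfsg.Agent.Lib.ZStar.Main
import Cfsg.Agent.Lib.KleinBlock.Four
import Cfsg.Agent.Lib.SmallSimple.ExceptionalDegree

/-!
# No three moved linear characters in a simple group with Klein four Sylow 2-subgroups

The principal block gives signed degrees congruent to one modulo four; none is `1` or `-3`; the
weighted count of pairs of involutions then contradicts the order formula.
-/

set_option autoImplicit false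
set_option linter.style.haveILetI false
set_option linter.unusedSectionVars false

namespace Cfsg.Agent.GW.KleinMoved

open Cfsg
open scoped ComplexConjugate

universe u

variable {G : Type u} [Group G] [Fintype G] {J : G} {d : KleinBlock.Data J}

theorem invData (d : KleinBlock.Data J) : ZStar.InvData J := by
  refine ⟨d.hJ, ⟨d.N, d.mem_N, d.card_centralizer_J⟩, d.conj, ?_⟩
  rintro g ⟨k, hk⟩
  rcases k with _ | _ | k
  · exact Or.inl (orderOf_eq_one_iff.1 (by simpa using hk))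
  · exact Or.inr (by simpa using hk)
  · exfalso
    have hz : orderOf (g ^ 2 ^ (k + 1)) = 2 := by
      rw [orderOf_pow, hk, Nat.gcd_eq_right (pow_dvd_pow 2 (by omega)),
        Nat.pow_div (by omega) (by norm_num)]
      norm_num
    obtain ⟨c, hc⟩ := isConj_iff.1 (d.conj _ hz)
    set g' := c⁻¹ * g * c with hg'
    have hp : g' ^ 2 ^ (k + 1) = J := by
      have : g' = c⁻¹ * g * c⁻¹⁻¹ := by rw [inv_inv]
      rw [this, conj_pow, ← hc]
      group
    have hcomm : Commute J g' := by rw [← hp]; exact (Commute.refl g').pow_left _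
    obtain ⟨q, hq, v, hv, hqv⟩ := d.decomp g' hcomm
    have h2 : g' ^ 2 ∈ d.N := by
      have : g' ^ 2 = q * v * q⁻¹ * v := by
        rw [hqv, pow_two, inv_eq_of_mul_eq_one_right (d.sq q hq)]
        group
      rw [this]
      exact mul_mem (d.conjN q (d.comm J d.jmem q hq) v hv) hv
    have hJN : J ∈ d.N := by
      have h : g' ^ 2 ^ (k + 1) ∈ d.N := by
        rw [pow_succ', pow_mul]
        exact pow_mem h2 _
      exact (congrArg (· ∈ d.N) hp).mp h
    have hJ2 := d.odd_of_mem hJN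
    rw [d.hJ] at hJ2
    exact absurd hJ2 (by decide)

theorem mem_core {v : G} (hv : v ∈ d.N) : v ∈ centralizerPPrimeCore 2 J := by
  set C := Subgroup.centralizer ({J} : Set G)
  have hle : d.N ≤ C := fun w hw =>
    Subgroup.mem_centralizer_singleton_iff.2 (commute_J hw).symm.eq
  haveI : (d.N.subgroupOf C).Normal := ⟨fun w hw c => by
    rw [Subgroup.mem_subgroupOf] at hw ⊢
    exact d.conjN c (Subgroup.mem_centralizer_singleton_iff.1 c.2).symm _ hw⟩
  refine Subgroup.mem_map.2 ⟨⟨v, hle hv⟩, PCore.le_pPrimeCore ?_ (show ⟨v, hle hv⟩ ∈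
    d.N.subgroupOf C from hv), rfl⟩
  rw [Nat.card_congr (Subgroup.subgroupOfEquivOfLe hle).toEquiv]
  exact Nat.coprime_two_right.2 d.oddN

namespace Moved

/-- The signed degree of a character of the principal block is neither one nor minus three. -/
theorem not_small [IsSimpleGroup G] (hG : ¬ IsMulCommutative G) (M : Moved d) {𝔐 : Ideal AlgInt}
    (h𝔐 : IsPModular 2 𝔐) {χ : IrrCharacter G} (hχ : χ ∈ principalBlock 𝔐 G)
    (hne : χ ≠ Char.trivialChar G) {w : ℤ} (hw : w = 1 ∨ w = -1) (hval : χ.1 J = (w : ℂ)) :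
    4 ∣ w * (charDegree χ.1 : ℤ) - 1 ∧ w * (charDegree χ.1 : ℤ) ≠ 1 ∧
      w * (charDegree χ.1 : ℤ) ≠ -3 := by
  classical
  haveI := Fintype.ofFinite d.P
  haveI := Fintype.ofFinite (fixedPart d)
  haveI := Fintype.ofFinite (⊥ : Subgroup G)
  have hJ1 : J ≠ 1 := fun h => by have := d.hJ; rw [h, orderOf_one] at this; omega
  have hmem : ∀ x : G, x ∈ ({1, J, d.u, d.u * J} : Finset G) ↔ x ∈ d.P := fun x => by
    simp only [Finset.mem_insert, Finset.mem_singleton]
    refine ⟨?_, d.two x⟩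
    rintro (rfl | rfl | rfl | rfl)
    exacts [one_mem _, d.jmem, d.umem, mul_mem d.umem d.jmem]
  have e1 : (1 : G) ∉ ({J, d.u, d.u * J} : Finset G) := by
    simp [Ne.symm hJ1, Ne.symm d.u_ne_one, Ne.symm d.uJ_ne_one]
  have e2 : J ∉ ({d.u, d.u * J} : Finset G) := by simp [d.ju, d.u_ne_one]
  have e3 : d.u ≠ d.u * J := fun h => hJ1 (mul_eq_left.1 h.symm)
  have hcl := Blocks.irr_classFun χ
  -- on `P` times the fixed part
  have hconst : ∀ q ∈ d.P, q ≠ 1 → ∀ y ∈ fixedPart d, χ.1 (q * y) = (w : ℂ) := by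
    have hJy : ∀ y ∈ fixedPart d, χ.1 (J * y) = (w : ℂ) := fun y hy => by
      rw [ZStar.apply_mul_core ZStar.secondPrincipal h𝔐 ⟨1, by rw [d.hJ, pow_one]⟩
        (mem_core (mem_fixedPart.1 hy).1) hχ, hval]
    have hrot : ∀ (q : G), (∀ y ∈ fixedPart d, χ.1 (q * y) = (w : ℂ)) →
        ∀ y ∈ fixedPart d, χ.1 (M.r * q * M.r⁻¹ * y) = (w : ℂ) := fun q hq y hy => by
      rw [show M.r * q * M.r⁻¹ * y = M.r * (q * (M.r⁻¹ * y * M.r)) * M.r⁻¹ by group, hcl]
      exact hq _ (M.conj_mem_fixedPart hy).2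
    have huy := hrot J hJy
    rw [M.rJ] at huy
    have huJy := hrot d.u huy
    rw [M.ru] at huJy
    intro q hq hq1
    rcases d.two q hq with e | e | e | e <;> rw [e]
    exacts [absurd e hq1, hJy, huy, huJy]
  obtain ⟨m, hm⟩ := exists_nat_sum (Char.irr_isCharacter χ) d.P (fixedPart d) (fun k hk y hy => by
    obtain ⟨hyN, hyu⟩ := mem_fixedPart.1 hy
    rcases d.two k hk with e | e | e | e <;> rw [e]
    exacts [Commute.one_left y, commute_J hyN, hyu, hyu.mul_left (commute_J hyN)]) 1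
  obtain ⟨a, ha⟩ := exists_nat_sum (Char.irr_isCharacter χ) d.P ⊥
    (fun k _ l hl => by rw [Subgroup.mem_bot.1 hl]; exact Commute.one_right k) 1
  simp only [MonoidHom.one_apply, map_one, mul_one] at hm ha
  rw [← Finset.sum_subtype _ hmem (fun q => ∑ y : fixedPart d, χ.1 (q * y)), Finset.sum_insert e1,
    Finset.sum_insert e2, Finset.sum_pair e3] at hm
  rw [Finset.sum_congr rfl (fun (y : fixedPart d) _ => hconst J d.jmem hJ1 y y.2),
    Finset.sum_congr rfl (fun (y : fixedPart d) _ => hconst d.u d.umem d.u_ne_one y y.2),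
    Finset.sum_congr rfl (fun (y : fixedPart d) _ => hconst (d.u * J) (mul_mem d.umem d.jmem) d.uJ_ne_one y y.2),
    Finset.sum_const, Finset.card_univ, ← Nat.card_eq_fintype_card, d.cardP, nsmul_eq_mul] at hm
  simp only [one_mul] at hm
  have hbot : ∀ k : G, ∑ l : (⊥ : Subgroup G), χ.1 (k * l) = χ.1 k := fun k => by
    rw [← Finset.sum_subtype ({1} : Finset G) (fun x => by simp [Subgroup.mem_bot])
      (fun l => χ.1 (k * l)), Finset.sum_singleton, mul_one]
  simp only [hbot, Subgroup.card_bot, Nat.cast_one, mul_one, d.cardP] at ha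
  rw [← Finset.sum_subtype _ hmem χ.1, Finset.sum_insert e1, Finset.sum_insert e2,
    Finset.sum_pair e3, ← Char.charDegree_cast] at ha
  have hone : ∀ q ∈ d.P, q ≠ 1 → χ.1 q = (w : ℂ) := fun q hq hq1 => by
    simpa using hconst q hq hq1 1 (one_mem _)
  rw [hone J d.jmem hJ1, hone d.u d.umem d.u_ne_one,
    hone (d.u * J) (mul_mem d.umem d.jmem) d.uJ_ne_one] at ha
  have hza : (charDegree χ.1 : ℤ) + 3 * w = 4 * (a : ℤ) := by
    have : (((charDegree χ.1 : ℤ) + 3 * w : ℤ) : ℂ) = ((4 * (a : ℤ) : ℤ) : ℂ) := by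
      push_cast at ha ⊢
      linear_combination ha
    exact_mod_cast this
  have hdeg := Char.charDegree_pos χ
  refine ⟨by rcases hw with e | e <;> rw [e] at hza ⊢ <;> omega, fun h => ?_, fun h => ?_⟩
  · refine hne (SmallSimple.eq_trivialChar_of_degree_one hG χ ?_)
    have : charDegree χ.1 = 1 := by rcases hw with e | e <;> rw [e] at h <;> omega
    rw [← Char.charDegree_cast, this, Nat.cast_one]
  · obtain ⟨h3, rfl⟩ : charDegree χ.1 = 3 ∧ w = -1 := by
      rcases hw with e | e <;> rw [e] at h ⊢ <;> omega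
    -- real parts
    push_cast at hm
    have hre := congrArg Complex.re hm
    simp only [Complex.add_re, Complex.mul_re, Complex.natCast_re, Complex.natCast_im,
      Complex.re_sum, Complex.neg_re, Complex.one_re, Complex.neg_im, Complex.one_im, mul_zero,
      neg_zero, sub_zero, Complex.mul_im, add_zero, zero_mul, Complex.re_ofNat,
      Complex.im_ofNat] at hre
    set D : ℝ := (Nat.card (fixedPart d) : ℝ) with hD
    have hle : ∀ y : fixedPart d, (χ.1 y).re ≤ 3 := fun y => by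
      refine (Complex.re_le_norm _).trans ((CharInt.norm_char_le (Char.irr_isCharacter χ) _).trans ?_)
      rw [← Char.charDegree_cast, Complex.norm_natCast, h3]
      norm_num
    have hsum : ∑ y : fixedPart d, (χ.1 y).re = ∑ _y : fixedPart d, (3 : ℝ) := by
      have hup : ∑ y : fixedPart d, (χ.1 y).re ≤ ∑ _y : fixedPart d, (3 : ℝ) :=
        Finset.sum_le_sum fun y _ => hle y
      refine le_antisymm hup ?_
      rw [Finset.sum_const, Finset.card_univ, ← Nat.card_eq_fintype_card, nsmul_eq_mul, ← hD]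
      have : (0 : ℝ) ≤ D := Nat.cast_nonneg _
      have : (0 : ℝ) ≤ (m : ℝ) := Nat.cast_nonneg _
      nlinarith
    have heach := (Finset.sum_eq_sum_iff_of_le fun y _ => hle y).1 hsum
    obtain ⟨y, hy, hy1⟩ : ∃ y ∈ fixedPart d, y ≠ 1 := by
      have := M.fixedPart_ne_bot
      rw [Ne, Subgroup.eq_bot_iff_forall] at this
      push Not at this
      exact this
    have hval3 : χ.1 y = χ.1 1 := by
      have h1 := heach ⟨y, hy⟩ (Finset.mem_univ _)
      have h2 : ‖χ.1 y‖ ≤ 3 := by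
        refine (CharInt.norm_char_le (Char.irr_isCharacter χ) _).trans ?_
        rw [← Char.charDegree_cast, Complex.norm_natCast, h3]
        norm_num
      have h4 : (χ.1 y).im = 0 := by
        have h5 : Complex.normSq (χ.1 y) ≤ 9 := by
          rw [Complex.normSq_eq_norm_sq]
          nlinarith [norm_nonneg (χ.1 y)]
        rw [Complex.normSq_apply] at h5
        simp only at h1
        rw [h1] at h5
        nlinarith [mul_self_nonneg (χ.1 y).im]
      rw [← Char.charDegree_cast, h3]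
      exact Complex.ext (by simpa using h1) (by simpa using h4)
    rcases (CharInt.charKernel_normal (Char.irr_isCharacter χ)).eq_bot_or_eq_top with hb | ht
    · exact hy1 ((Subgroup.eq_bot_iff_forall _).1 hb y hval3)
    · exact hne (ZStar.eq_trivialChar_of_const fun g =>
        (CharInt.mem_charKernel (Char.irr_isCharacter χ)).1 (ht.symm ▸ Subgroup.mem_top g))

/-- **No moved characters.** -/
theorem false_of_moved [IsSimpleGroup G] (hG : ¬ IsMulCommutative G) (M : Moved d) : False := by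
  classical
  obtain ⟨𝔐, h𝔐⟩ := ZStar.exists_isPModular_two
  obtain ⟨w, hwB, hmem, hzero, hsq, hw1⟩ :=
    (invData d).exists_weights ZStar.secondPrincipal h𝔐
  set t₀ := Char.trivialChar G with ht₀
  have hrest : ∑ χ ∈ Finset.univ.erase t₀, w χ * w χ = 3 := by
    rw [← Finset.add_sum_erase _ _ (Finset.mem_univ t₀), hw1] at hsq
    linarith
  have hpm : ∀ χ, χ ≠ t₀ → w χ ≠ 0 → w χ = 1 ∨ w χ = -1 := fun χ hne h0 => by
    have hle : w χ * w χ ≤ 3 := hrest ▸ Finset.single_le_sum (fun y _ => mul_self_nonneg (w y))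
      (Finset.mem_erase.2 ⟨hne, Finset.mem_univ χ⟩)
    by_contra h
    push Not at h
    rcases le_or_gt (w χ) 0 with h' | h'
    · have : w χ ≤ -2 := by omega
      nlinarith
    · have : 2 ≤ w χ := by omega
      nlinarith
  set T := (Finset.univ.erase t₀).filter fun χ => w χ ≠ 0 with hT
  have hT3 : T.card = 3 := by
    have h : ∑ χ ∈ T, w χ * w χ = 3 := by
      rw [hT, Finset.sum_filter_of_ne]
      · exact hrest
      · intro χ _ h h0
        exact h (by rw [h0, mul_zero])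
    rw [Finset.sum_congr rfl (g := fun _ => (1 : ℤ)) (fun χ hχ => by
      obtain ⟨h1, h2⟩ := Finset.mem_filter.1 hχ
      rcases hpm χ (Finset.ne_of_mem_erase h1) h2 with e | e <;> rw [e] <;> norm_num),
      Finset.sum_const, nsmul_eq_mul, mul_one] at h
    exact_mod_cast h
  obtain ⟨χ₁, χ₂, χ₃, h12, h13, h23, hTeq⟩ := Finset.card_eq_three.1 hT3
  have hin : ∀ χ, χ = χ₁ ∨ χ = χ₂ ∨ χ = χ₃ → χ ≠ t₀ ∧ w χ ≠ 0 := fun χ h => by
    have : χ ∈ T := by rw [hTeq]; simpa using h
    exact ⟨Finset.ne_of_mem_erase (Finset.mem_filter.1 this).1, (Finset.mem_filter.1 this).2⟩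
  obtain ⟨n1, z1⟩ := hin χ₁ (Or.inl rfl)
  obtain ⟨n2, z2⟩ := hin χ₂ (Or.inr (Or.inl rfl))
  obtain ⟨n3, z3⟩ := hin χ₃ (Or.inr (Or.inr rfl))
  let b : KleinBlock.FourBlock 𝔐 J :=
    { χ₁ := χ₁, χ₂ := χ₂, χ₃ := χ₃, ε₁ := w χ₁, ε₂ := w χ₂, ε₃ := w χ₃
      hB := by
        ext χ
        rw [Set.mem_ofPred_eq, hmem]
        constructor
        · intro h
          by_cases he : χ = t₀
          · exact Or.inl (by rw [he]; rfl)
          · have : χ ∈ T := Finset.mem_filter.2 ⟨Finset.mem_erase.2 ⟨he, Finset.mem_univ _⟩, h⟩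
            rw [hTeq] at this
            exact Or.inr (by simpa using this)
        · rintro (h | h)
          · rw [show χ = t₀ from Subtype.ext h, hw1]; exact one_ne_zero
          · exact (hin χ h).2
      hdist := ⟨fun h => n1 (Subtype.ext h), fun h => n2 (Subtype.ext h),
        fun h => n3 (Subtype.ext h), h12, h13, h23⟩
      hε := ⟨hpm _ n1 z1, hpm _ n2 z2, hpm _ n3 z3⟩
      hval := ⟨hwB _ ((hmem _).2 z1), hwB _ ((hmem _).2 z2), hwB _ ((hmem _).2 z3)⟩ }
  obtain ⟨a1, b1, c1⟩ := M.not_small hG h𝔐 ((hmem _).2 z1) n1 b.hε.1 b.hval.1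
  obtain ⟨a2, b2, c2⟩ := M.not_small hG h𝔐 ((hmem _).2 z2) n2 b.hε.2.1 b.hval.2.1
  obtain ⟨a3, b3, c3⟩ := M.not_small hG h𝔐 ((hmem _).2 z3) n3 b.hε.2.2 b.hval.2.2
  have hrel := b.relation d h𝔐
  obtain ⟨ε, n, hε, hn, h4n, hcount⟩ := M.exists_degree
  refine no_degrees (Y := ε * n) a1 a2 a3 ⟨b1, c1⟩ ⟨b2, c2⟩ ⟨b3, c3⟩ hrel ?_ ?_
  · rcases hε with rfl | rfl <;> omega
  -- compare with the order formula
  have hord := d.order_eq h𝔐 fun χ hχ => b.real_at hχ
  rw [b.sum_block fun χ => χ.1 J * χ.1 J * χ.1 J / χ.1 1, b.hval.1, b.hval.2.1, b.hval.2.2,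
    show (Char.trivialChar G).1 J * (Char.trivialChar G).1 J * (Char.trivialChar G).1 J /
      (Char.trivialChar G).1 1 = 1 by
      change (1 : ℂ) * 1 * 1 / 1 = 1
      norm_num] at hord
  simp only [← Char.charDegree_cast, d.card_centralizer_J, d.card_centralizer_P] at hord
  rw [d.card_centralizer_J] at hcount
  have hpair := congrArg (fun k : ℕ => (k : ℂ)) d.card_involPair_mul
  push_cast at hord hcount hpair
  have hb := b.hε
  change (w χ₁ = 1 ∨ w χ₁ = -1) ∧ (w χ₂ = 1 ∨ w χ₂ = -1) ∧ (w χ₃ = 1 ∨ w χ₃ = -1) at hb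
  simp only [b] at hord ⊢
  set o : ℂ := (Nat.card d.N : ℂ)
  set D : ℂ := (Nat.card (d.N ⊓ Subgroup.centralizer ({d.u} : Set G) : Subgroup G) : ℂ)
  set g : ℂ := (Nat.card G : ℂ)
  have ho : o ≠ 0 := odd_ne_zero d
  have hD : D ≠ 0 := Nat.cast_ne_zero.2 Nat.card_pos.ne'
  have hg : g ≠ 0 := Char.card_ne_zero
  -- `g D² ε = 4 o³ n` against `g S D² = 32 o³`
  have h1 : g * (8 * (ε : ℂ)) * D ^ 2 * o = 32 * o ^ 4 * (n : ℂ) := by
    linear_combination -(D ^ 2) * hcount + 16 * o ^ 2 * (n : ℂ) * hpair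
  have hεn : ((ε * n : ℤ) : ℂ) = (ε : ℂ) * n := by push_cast; rfl
  have key : (ε : ℂ) * n * (1 + (w χ₁ : ℂ) / (charDegree χ₁.1 : ℂ) +
      (w χ₂ : ℂ) / (charDegree χ₂.1 : ℂ) + (w χ₃ : ℂ) / (charDegree χ₃.1 : ℂ)) = 8 := by
    have hcube : ∀ {e : ℤ}, (e = 1 ∨ e = -1) → (e : ℂ) * e * e = e := by
      rintro e (rfl | rfl) <;> norm_num
    rw [hcube hb.1, hcube hb.2.1, hcube hb.2.2] at hord
    have hε2 : (ε : ℂ) * ε = 1 := by rcases hε with rfl | rfl <;> norm_num
    apply mul_left_cancel₀ (mul_ne_zero hg (pow_ne_zero 2 hD))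
    apply mul_left_cancel₀ ho
    linear_combination (o * (ε : ℂ) * n / 16) * hord - (ε : ℂ) * h1 + 8 * g * D ^ 2 * o * hε2
  have hx : ∀ χ : IrrCharacter G, (charDegree χ.1 : ℂ) ≠ 0 := fun χ =>
    Nat.cast_ne_zero.2 (Char.charDegree_pos χ).ne'
  have hfin : ((ε * n * (w χ₁ * (charDegree χ₁.1 : ℤ) * (w χ₂ * (charDegree χ₂.1 : ℤ)) *
      (w χ₃ * (charDegree χ₃.1 : ℤ)) + w χ₂ * (charDegree χ₂.1 : ℤ) * (w χ₃ * (charDegree χ₃.1 : ℤ)) +
      w χ₁ * (charDegree χ₁.1 : ℤ) * (w χ₃ * (charDegree χ₃.1 : ℤ)) +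
      w χ₁ * (charDegree χ₁.1 : ℤ) * (w χ₂ * (charDegree χ₂.1 : ℤ))) : ℤ) : ℂ) =
      ((8 * (w χ₁ * (charDegree χ₁.1 : ℤ) * (w χ₂ * (charDegree χ₂.1 : ℤ)) *
        (w χ₃ * (charDegree χ₃.1 : ℤ))) : ℤ) : ℂ) := by
    push_cast
    have := hx χ₁
    have := hx χ₂
    have := hx χ₃
    field_simp at key
    rcases hb with ⟨e1 | e1, e2 | e2, e3 | e3⟩ <;>
      simp only [e1, e2, e3, Int.cast_one, Int.cast_neg] at key ⊢ <;>
      first
        | linear_combination key
        | linear_combination -key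
  exact_mod_cast hfin

end Moved

end Cfsg.Agent.GW.KleinMoved
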