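import Mathlib

/-!
# Three orthogonal integer vectors of norm four, and the degree equation
-/

set_option autoImplicit false

namespace Cfsg.Agent.GW.KleinMoved

/-- Three orthogonal integer vectors of norm four of constant parity, killing a positive vector:
they are signs on four places, their product is a constant sign there and so is the positive
vector. -/
theorem star_of_orth {ι : Type*} [Fintype ι] [DecidableEq ι] (a b c deg : ι → ℤ)
    (hdeg : ∀ x, 0 < deg x)
    (hpar : ∀ x, a x % 2 = b x % 2 ∧ a x % 2 = c x % 2)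
    (haa : ∑ x, a x * a x = 4) (hbb : ∑ x, b x * b x = 4) (hcc : ∑ x, c x * c x = 4)
    (hab : ∑ x, a x * b x = 0) (hac : ∑ x, a x * c x = 0) (hbc : ∑ x, b x * c x = 0)
    (ha : ∑ x, a x * deg x = 0) (hb : ∑ x, b x * deg x = 0) (hc : ∑ x, c x * deg x = 0) :
    ∃ ε n : ℤ, (ε = 1 ∨ ε = -1) ∧
      (∀ x, (a x = 0 ∧ b x = 0 ∧ c x = 0) ∨
        ((a x = 1 ∨ a x = -1) ∧ (b x = 1 ∨ b x = -1) ∧ (c x = 1 ∨ c x = -1) ∧
          a x * b x * c x = ε ∧ deg x = n)) ∧
      (∑ x, a x = 0 ∧ ∑ x, b x = 0 ∧ ∑ x, c x = 0) ∧ ∑ x, a x * b x * c x = 4 * ε ∧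
      ∀ x y, a x ≠ 0 → a y ≠ 0 → x ≠ y → a x * a y + b x * b y + c x * c y = -1 := by
  -- odd or zero
  have hodd : ∀ w : ι → ℤ, ∑ x, w x * w x = 4 → ∑ x, w x * deg x = 0 →
      ∀ x, w x ≠ 0 → (w x = 1 ∨ w x = -1) := by
    intro w hw hwd x hx
    have hle : w x * w x ≤ 4 := hw ▸ Finset.single_le_sum
      (fun y _ => mul_self_nonneg (w y)) (Finset.mem_univ x)
    by_contra hne
    push Not at hne
    have h2 : w x * w x = 4 := by
      refine le_antisymm hle ?_
      rcases le_or_gt (w x) 0 with h | h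
      · have : w x ≤ -2 := by omega
        nlinarith
      · have : 2 ≤ w x := by omega
        nlinarith
    have hz : ∀ y, y ≠ x → w y = 0 := by
      intro y hy
      rw [← Finset.add_sum_erase _ _ (Finset.mem_univ x), h2] at hw
      have h0 : ∑ y ∈ Finset.univ.erase x, w y * w y = 0 := by omega
      exact mul_self_eq_zero.1 ((Finset.sum_eq_zero_iff_of_nonneg fun y _ => mul_self_nonneg (w y)).1 h0
        y (Finset.mem_erase.2 ⟨hy, Finset.mem_univ y⟩))
    rw [Finset.sum_eq_single x (fun y _ hy => by rw [hz y hy, zero_mul]) (by simp)] at hwd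
    rcases mul_eq_zero.1 hwd with h | h
    · exact hx h
    · exact absurd h (hdeg x).ne'
  have hcase : ∀ x, (a x = 0 ∧ b x = 0 ∧ c x = 0) ∨
      ((a x = 1 ∨ a x = -1) ∧ (b x = 1 ∨ b x = -1) ∧ (c x = 1 ∨ c x = -1)) := by
    intro x
    obtain ⟨p1, p2⟩ := hpar x
    by_cases h : a x = 0
    · left
      have h1 : b x = 0 := by
        by_contra hne
        rcases hodd b hbb hb x hne with e | e <;> rw [h, e] at p1 <;> norm_num at p1
      have h2 : c x = 0 := by
        by_contra hne
        rcases hodd c hcc hc x hne with e | e <;> rw [h, e] at p2 <;> norm_num at p2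
      exact ⟨h, h1, h2⟩
    · right
      refine ⟨hodd a haa ha x h, hodd b hbb hb x fun e => ?_, hodd c hcc hc x fun e => ?_⟩
      · rcases hodd a haa ha x h with f | f <;> rw [f, e] at p1 <;> norm_num at p1
      · rcases hodd a haa ha x h with f | f <;> rw [f, e] at p2 <;> norm_num at p2
  set e : ι → ℤ := fun x => a x * b x * c x with he
  have hsq : ∀ (w : ι → ℤ) x, (w x = 1 ∨ w x = -1) → w x * w x = 1 := by
    rintro w x (h | h) <;> rw [h] <;> norm_num
  have hee : ∑ x, e x * e x = 4 := by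
    rw [← haa]
    refine Finset.sum_congr rfl fun x _ => ?_
    rcases hcase x with ⟨h1, h2, h3⟩ | ⟨-, h2, h3⟩
    · simp [he, h1]
    · calc e x * e x = a x * a x * (b x * b x) * (c x * c x) := by rw [he]; ring
        _ = _ := by rw [hsq b x h2, hsq c x h3, mul_one, mul_one]
  have hae : ∑ x, a x * e x = 0 := by
    rw [← hbc]
    refine Finset.sum_congr rfl fun x _ => ?_
    rcases hcase x with ⟨h1, h2, h3⟩ | ⟨h1, -, -⟩
    · simp [he, h1, h2]
    · calc a x * e x = a x * a x * (b x * c x) := by rw [he]; ring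
        _ = _ := by rw [hsq a x h1, one_mul]
  have hbe : ∑ x, b x * e x = 0 := by
    rw [← hac]
    refine Finset.sum_congr rfl fun x _ => ?_
    rcases hcase x with ⟨h1, h2, h3⟩ | ⟨-, h2, -⟩
    · simp [he, h1, h2]
    · calc b x * e x = b x * b x * (a x * c x) := by rw [he]; ring
        _ = _ := by rw [hsq b x h2, one_mul]
  have hce : ∑ x, c x * e x = 0 := by
    rw [← hab]
    refine Finset.sum_congr rfl fun x _ => ?_
    rcases hcase x with ⟨h1, h2, h3⟩ | ⟨-, -, h3⟩
    · simp [he, h1, h2]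
    · calc c x * e x = c x * c x * (a x * b x) := by rw [he]; ring
        _ = _ := by rw [hsq c x h3, one_mul]
  set K : ι → ι → ℤ := fun x y => a x * a y + b x * b y + c x * c y + e x * e y with hK
  have hdiag : ∀ x, a x ≠ 0 → K x x = 4 := by
    intro x hx
    rcases hcase x with ⟨h, -, -⟩ | ⟨h1, h2, h3⟩
    · exact absurd h hx
    · have : e x * e x = 1 := by
        calc e x * e x = a x * a x * (b x * b x) * (c x * c x) := by rw [he]; ring
          _ = _ := by rw [hsq a x h1, hsq b x h2, hsq c x h3]; norm_num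
      simp only [hK]
      rw [hsq a x h1, hsq b x h2, hsq c x h3, this]
      norm_num
  have hoff : ∀ x y, a x ≠ 0 → x ≠ y → K x y = 0 := by
    intro x y hx hxy
    have hrow : ∑ y, K x y * K x y = 4 * (a x * a x + b x * b x + c x * c x + e x * e x) := by
      have : ∀ y, K x y * K x y = a x * a x * (a y * a y) + b x * b x * (b y * b y) +
          c x * c x * (c y * c y) + e x * e x * (e y * e y) + 2 * a x * b x * (a y * b y) +
          2 * a x * c x * (a y * c y) + 2 * b x * c x * (b y * c y) + 2 * a x * e x * (a y * e y) +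
          2 * b x * e x * (b y * e y) + 2 * c x * e x * (c y * e y) := fun y => by
        simp only [hK]; ring
      simp only [this, Finset.sum_add_distrib, ← Finset.mul_sum, haa, hbb, hcc, hee, hab, hac, hbc,
        hae, hbe, hce]
      ring
    rw [show a x * a x + b x * b x + c x * c x + e x * e x = K x x from rfl, hdiag x hx,
      ← Finset.add_sum_erase _ _ (Finset.mem_univ x), hdiag x hx] at hrow
    have h0 : ∑ y ∈ Finset.univ.erase x, K x y * K x y = 0 := by omega
    exact mul_self_eq_zero.1 ((Finset.sum_eq_zero_iff_of_nonneg fun y _ => mul_self_nonneg (K x y)).1 h0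
      y (Finset.mem_erase.2 ⟨Ne.symm hxy, Finset.mem_univ y⟩))
  set S := ∑ y, e y * deg y with hS
  have hd4 : ∀ x, a x ≠ 0 → 4 * deg x = e x * S := by
    intro x hx
    have h1 : ∑ y, K x y * deg y = 4 * deg x := by
      rw [Finset.sum_eq_single x (fun y _ hy => by rw [hoff x y hx (Ne.symm hy), zero_mul]) (by simp),
        hdiag x hx]
    have h2 : ∑ y, K x y * deg y = e x * S := by
      simp only [hK, add_mul, mul_assoc, Finset.sum_add_distrib, ← Finset.mul_sum, ha, hb, hc, hS,
        mul_zero, zero_add]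
    omega
  have hex : ∃ x, a x ≠ 0 := by
    by_contra h
    push Not at h
    simp [h] at haa
  obtain ⟨x₀, hx₀⟩ := hex
  have hepm : ∀ x, a x ≠ 0 → e x = 1 ∨ e x = -1 := by
    intro x hx
    rcases hcase x with ⟨h, -, -⟩ | ⟨h1, h2, h3⟩
    · exact absurd h hx
    · rcases h1 with f | f <;> rcases h2 with g | g <;> rcases h3 with h | h <;> simp [he, f, g, h]
  have hconst : ∀ x, a x ≠ 0 → e x = e x₀ ∧ deg x = deg x₀ := by
    intro x hx
    have h1 := hd4 x hx
    have h2 := hd4 x₀ hx₀
    have p1 := hdeg x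
    have p2 := hdeg x₀
    rcases hepm x hx with f | f <;> rcases hepm x₀ hx₀ with g | g <;> rw [f] at h1 ⊢ <;>
      rw [g] at h2 ⊢ <;> omega
  have hind : ∀ x, a x ≠ 0 → e x * e x₀ = 1 := by
    intro x hx
    rw [(hconst x hx).1]
    rcases hepm x₀ hx₀ with f | f <;> rw [f] <;> norm_num
  refine ⟨e x₀, deg x₀, hepm x₀ hx₀, fun x => ?_, ⟨?_, ?_, ?_⟩, ?_, ?_⟩
  · rcases hcase x with h | ⟨h1, h2, h3⟩
    · exact Or.inl h
    · have hx : a x ≠ 0 := by rcases h1 with h | h <;> omega
      exact Or.inr ⟨h1, h2, h3, (hconst x hx).1, (hconst x hx).2⟩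
  · have : ∀ x, a x = e x₀ * (a x * e x) := fun x => by
      rcases eq_or_ne (a x) 0 with h | h
      · simp [h]
      · linear_combination -(a x) * hind x h
    rw [Finset.sum_congr rfl fun x _ => this x, ← Finset.mul_sum, hae, mul_zero]
  · have : ∀ x, b x = e x₀ * (b x * e x) := fun x => by
      rcases hcase x with ⟨-, h, -⟩ | ⟨h1, -, -⟩
      · simp [h]
      · linear_combination -(b x) * hind x (by rcases h1 with h | h <;> omega)
    rw [Finset.sum_congr rfl fun x _ => this x, ← Finset.mul_sum, hbe, mul_zero]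
  · have : ∀ x, c x = e x₀ * (c x * e x) := fun x => by
      rcases hcase x with ⟨-, -, h⟩ | ⟨h1, -, -⟩
      · simp [h]
      · linear_combination -(c x) * hind x (by rcases h1 with h | h <;> omega)
    rw [Finset.sum_congr rfl fun x _ => this x, ← Finset.mul_sum, hce, mul_zero]
  · have : ∀ x, a x * b x * c x = e x₀ * (e x * e x) := fun x => by
      rcases eq_or_ne (a x) 0 with h | h
      · simp [he, h]
      · show e x = _
        linear_combination -(e x) * hind x h
    rw [Finset.sum_congr rfl fun x _ => this x, ← Finset.mul_sum, hee, mul_comm]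
  · intro x y hx hy hxy
    have h := hoff x y hx hxy
    simp only [hK] at h
    have h1 : e x * e y = 1 := by
      rw [(hconst x hx).1, mul_comm]
      exact hind y hy
    omega

/-- There is no solution in degrees. -/
theorem no_degrees {z₁ z₂ z₃ Y : ℤ} (h1 : 4 ∣ z₁ - 1) (h2 : 4 ∣ z₂ - 1) (h3 : 4 ∣ z₃ - 1)
    (n1 : z₁ ≠ 1 ∧ z₁ ≠ -3) (n2 : z₂ ≠ 1 ∧ z₂ ≠ -3) (n3 : z₃ ≠ 1 ∧ z₃ ≠ -3)
    (hs : 1 + z₁ + z₂ + z₃ = 0) (hY : 4 ∣ Y + 1)
    (heq : Y * (z₁ * z₂ * z₃ + z₂ * z₃ + z₁ * z₃ + z₁ * z₂) = 8 * (z₁ * z₂ * z₃)) : False := by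
  obtain ⟨m, hm⟩ := hY
  obtain rfl : Y = 4 * m - 1 := by omega
  -- one negative
  have key1 : ∀ p q : ℤ, 5 ≤ p → p ≤ q → 4 ∣ p - 1 → 4 ∣ q - 1 →
      (4 * m - 1) * (p * q * (-(1 + p + q)) + q * (-(1 + p + q)) + p * (-(1 + p + q)) + p * q) =
        8 * (p * q * (-(1 + p + q))) → False := by
    intro p q hp hpq ⟨i, hi⟩ ⟨k, hk⟩ he
    have hpos : 0 < q * (1 + p + q) + p * (1 + p + q) - p * q := by nlinarith
    have hprod : 0 < p * q * (1 + p + q) :=
      mul_pos (mul_pos (by linarith) (by linarith)) (by linarith)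
    have hu : 4 * m - 1 < 8 := by nlinarith
    have hl : 4 * m - 1 > 5 := by
      nlinarith [mul_nonneg (by linarith : 0 ≤ p - 5) (by linarith : (0 : ℤ) ≤ q - 5),
        mul_nonneg (mul_nonneg (by linarith : 0 ≤ p) (by linarith : 0 ≤ q)) (by linarith : 0 ≤ q - 5)]
    obtain rfl : m = 2 := by omega
    have he' : p * q * (1 + p + q) = 7 * (q * (1 + p + q) + p * (1 + p + q) - p * q) := by
      linear_combination he
    have hp13 : p ≤ 13 := by
      by_contra hlt
      nlinarith [mul_nonneg (by linarith : 0 ≤ p - 14) (mul_nonneg (by linarith : 0 ≤ q) (by linarith : 0 ≤ 1 + p + q)),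
        mul_nonneg (by linarith : 0 ≤ q - p) (by linarith : 0 ≤ 1 + p + q),
        mul_pos (by linarith : 0 < p) (by linarith : 0 < q)]
    rcases (by omega : p = 5 ∨ p = 9 ∨ p = 13) with rfl | rfl | rfl
    · nlinarith
    · have : q ≤ 13 := by nlinarith
      rcases (by omega : q = 9 ∨ q = 13) with rfl | rfl <;> norm_num at he'
    · have : q ≤ 13 := by nlinarith
      obtain rfl : q = 13 := by omega
      norm_num at he'
  -- two negatives
  have key2 : ∀ p q : ℤ, 7 ≤ p → p ≤ q → 4 ∣ p + 1 → 4 ∣ q + 1 →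
      (4 * m - 1) * (p * q * (p + q - 1) - p * (p + q - 1) - q * (p + q - 1) + p * q) =
        8 * (p * q * (p + q - 1)) → False := by
    intro p q hp hpq ⟨i, hi⟩ ⟨k, hk⟩ he
    have hpos : 0 < q * (p + q - 1) + p * (p + q - 1) - p * q := by nlinarith
    have hprod : 0 < p * q * (p + q - 1) :=
      mul_pos (mul_pos (by linarith) (by linarith)) (by linarith)
    have hden : 0 < p * q * (p + q - 1) - (q * (p + q - 1) + p * (p + q - 1) - p * q) := by
      nlinarith [mul_nonneg (by linarith : 0 ≤ p - 7) (by nlinarith : 0 ≤ q * (p + q - 1))]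
    have hl : 8 < 4 * m - 1 := by nlinarith
    have hu : 4 * m - 1 < 15 := by
      nlinarith [mul_nonneg (by linarith : 0 ≤ p - 7) (by nlinarith : 0 ≤ q * (p + q - 1)),
        mul_nonneg (by linarith : 0 ≤ q - 7) (by nlinarith : 0 ≤ p * (p + q - 1))]
    obtain rfl : m = 3 := by omega
    have he' : 3 * (p * q * (p + q - 1)) = 11 * (q * (p + q - 1) + p * (p + q - 1) - p * q) := by
      linear_combination he
    rcases (by omega : q = 7 ∨ 11 ≤ q) with rfl | hq
    · obtain rfl : p = 7 := by omega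
      norm_num at he'
    · nlinarith [mul_nonneg (by linarith : 0 ≤ p - 7) (by nlinarith : 0 ≤ q * (p + q - 1)),
        mul_nonneg (by linarith : 0 ≤ q - 11) (by nlinarith : 0 ≤ p * (p + q - 1)),
        mul_pos (by linarith : 0 < p) (by linarith : 0 < q),
        mul_pos (by linarith : 0 < p) (by linarith : 0 < p + q - 1)]
  have bound : ∀ z : ℤ, 4 ∣ z - 1 → z ≠ 1 ∧ z ≠ -3 → 5 ≤ z ∨ 7 ≤ -z := fun z hz hn => by omega
  rcases bound z₁ h1 n1 with a | a <;> rcases bound z₂ h2 n2 with b | b <;>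
    rcases bound z₃ h3 n3 with c | c
  · omega
  · obtain rfl : z₃ = -(1 + z₁ + z₂) := by omega
    rcases le_total z₁ z₂ with l | l
    · exact key1 z₁ z₂ a l h1 h2 (by linear_combination heq)
    · exact key1 z₂ z₁ b l h2 h1 (by linear_combination heq)
  · obtain rfl : z₂ = -(1 + z₁ + z₃) := by omega
    rcases le_total z₁ z₃ with l | l
    · exact key1 z₁ z₃ a l h1 h3 (by linear_combination heq)
    · exact key1 z₃ z₁ c l h3 h1 (by linear_combination heq)
  · obtain rfl : z₁ = -z₂ - z₃ - 1 := by omega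
    rcases le_total (-z₂) (-z₃) with l | l
    · exact key2 (-z₂) (-z₃) b l (by omega) (by omega) (by linear_combination heq)
    · exact key2 (-z₃) (-z₂) c l (by omega) (by omega) (by linear_combination heq)
  · obtain rfl : z₁ = -(1 + z₂ + z₃) := by omega
    rcases le_total z₂ z₃ with l | l
    · exact key1 z₂ z₃ b l h2 h3 (by linear_combination heq)
    · exact key1 z₃ z₂ c l h3 h2 (by linear_combination heq)
  · obtain rfl : z₂ = -z₁ - z₃ - 1 := by omega
    rcases le_total (-z₁) (-z₃) with l | l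
    · exact key2 (-z₁) (-z₃) a l (by omega) (by omega) (by linear_combination heq)
    · exact key2 (-z₃) (-z₁) c l (by omega) (by omega) (by linear_combination heq)
  · obtain rfl : z₃ = -z₁ - z₂ - 1 := by omega
    rcases le_total (-z₁) (-z₂) with l | l
    · exact key2 (-z₁) (-z₂) a l (by omega) (by omega) (by linear_combination heq)
    · exact key2 (-z₂) (-z₁) b l (by omega) (by omega) (by linear_combination heq)
  · omega

end Cfsg.Agent.GW.KleinMoved
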