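import Cfsg.Agent.Lib.GW.KleinMoved.Setting

/-!
# Class functions carried by the 2-section of `J`, the averages of an irreducible character against
the three linear characters, and their common parity
-/

set_option autoImplicit false
set_option linter.style.haveILetI false
set_option linter.unusedSectionVars false

namespace Cfsg.Agent.GW.KleinMoved

open Cfsg
open scoped ComplexConjugate

universe u

variable {G : Type u} [Group G] [Fintype G] {J : G} {d : KleinBlock.Data J}

open Classical in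
/-- Four times `f` on the coset `J N`. -/
noncomputable def coset (d : KleinBlock.Data J) (f : G → ℂ) (g : G) : ℂ :=
  if Commute J g ∧ J * g ∈ d.N then 4 * f (J * g) else 0

/-- The class function induced from four times `f` on the coset `J N`. -/
noncomputable def sec (d : KleinBlock.Data J) (f : G → ℂ) (g : G) : ℂ :=
  (Nat.card (Subgroup.centralizer ({J} : Set G)) : ℂ)⁻¹ * ∑ x : G, coset d f (x⁻¹ * g * x)

theorem isClassFunction_sec (f : G → ℂ) : IsClassFunction G (sec d f) := by
  intro g a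
  simp only [sec]
  congr 1
  refine Fintype.sum_equiv (Equiv.mulLeft a⁻¹) _ _ fun x => ?_
  congr 1
  simp [mul_assoc]

theorem coset_mem {g : G} (h : Commute J g ∧ J * g ∈ d.N) : ∃ v ∈ d.N, g = J * v :=
  ⟨J * g, h.2, by rw [← mul_assoc, d.sq J d.jmem, one_mul]⟩

theorem mem_twoSection_coset {v : G} (hv : v ∈ d.N) : J * v ∈ ZStar.twoSection J := by
  haveI : Fact (Nat.Prime 2) := ⟨Nat.prime_two⟩
  refine ZStar.mem_twoSection.2 ⟨J, IsConj.refl J, ?_⟩
  exact Blocks.isPPart_mul (commute_J hv) ⟨1, by rw [d.hJ, pow_one]⟩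
    (ZStar.not_two_dvd_iff_odd.2 (d.odd_of_mem hv))

theorem sec_eq_zero {f : G → ℂ} {g : G} (hg : g ∉ ZStar.twoSection J) : sec d f g = 0 := by
  classical
  rw [sec, Finset.sum_eq_zero, mul_zero]
  intro x _
  rw [coset, if_neg]
  intro h
  obtain ⟨v, hv, he⟩ := coset_mem h
  refine hg ?_
  have hgx : g = x * (J * v) * x⁻¹ := by rw [← he]; group
  rw [hgx]
  exact ZStar.isPPart_conj_mem (mem_twoSection_coset hv) x

theorem sec_one (f : G → ℂ) : sec d f 1 = 0 :=
  sec_eq_zero fun h => by
    obtain ⟨s, hs, hp⟩ := ZStar.mem_twoSection.1 h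
    obtain ⟨i, hi⟩ := Blocks.IsPPart.mem_zpowers hp
    have hs1 : s = 1 := by rw [← hi]; exact one_zpow i
    have hJ := d.hJ
    rw [hs1, isConj_one_left] at hs
    rw [hs, orderOf_one] at hJ
    omega

/-- Invariance under the centraliser of `J`. -/
def Invariant (d : KleinBlock.Data J) (f : G → ℂ) : Prop :=
  ∀ c v, Commute J c → v ∈ d.N → f (c * v * c⁻¹) = f v

theorem sec_coset {f : G → ℂ} (hf : Invariant d f) {v : G} (hv : v ∈ d.N) :
    sec d f (J * v) = 4 * f v := by
  classical
  have hC : ∀ x, x ∈ Subgroup.centralizer ({J} : Set G) ↔ Commute J x := fun x => by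
    rw [Subgroup.mem_centralizer_singleton_iff]; exact ⟨Eq.symm, Eq.symm⟩
  have hco : (Nat.card d.N).Coprime (orderOf J) := by
    rw [d.hJ]; exact Nat.coprime_two_right.2 d.oddN
  obtain ⟨n, hn⟩ := GlauCyclic.mul_pow_eq_self hco
  have hpow : ∀ w ∈ d.N, (J * w) ^ n = J := fun w hw => by
    rw [(commute_J hw).eq]
    exact hn w hw (commute_J hw).symm
  have hterm : ∀ x : G, coset d f (x⁻¹ * (J * v) * x) =
      if Commute J x then 4 * f v else 0 := fun x => by
    split_ifs with hx
    · have he : x⁻¹ * (J * v) * x = J * (x⁻¹ * v * x⁻¹⁻¹) := by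
        calc x⁻¹ * (J * v) * x = (x⁻¹ * J) * v * x := by group
          _ = (J * x⁻¹) * v * x := by rw [hx.inv_right.eq]
          _ = _ := by group
      have hm := d.conjN x⁻¹ hx.inv_right v hv
      rw [he, coset, if_pos, ← mul_assoc J J, d.sq J d.jmem, one_mul, hf _ _ hx.inv_right hv]
      refine ⟨(Commute.refl J).mul_right (commute_J hm), ?_⟩
      rwa [← mul_assoc J J, d.sq J d.jmem, one_mul]
    · rw [coset, if_neg]
      intro h
      obtain ⟨w, hw, he⟩ := coset_mem h
      refine hx ?_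
      have h1 : x⁻¹ * J * x = J := by
        have h2 := congrArg (· ^ n) he
        simp only [hpow w hw] at h2
        have h3 : (x⁻¹ * (J * v) * x⁻¹⁻¹) ^ n = x⁻¹ * (J * v) ^ n * x⁻¹⁻¹ := conj_pow
        rw [inv_inv, hpow v hv] at h3
        rw [← h3]
        exact h2
      show J * x = x * J
      calc J * x = x * (x⁻¹ * J * x) := by group
        _ = x * J := by rw [h1]
  rw [sec, Finset.sum_congr rfl fun x _ => hterm x, ← Finset.sum_filter, Finset.sum_const,
    nsmul_eq_mul]
  have : (Finset.univ.filter fun x : G => Commute J x).card =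
      Nat.card (Subgroup.centralizer ({J} : Set G)) := by
    rw [Nat.card_eq_fintype_card]
    exact (Fintype.card_of_subtype _ fun x => by simp [hC]).symm
  rw [this, ← mul_assoc, inv_mul_cancel₀ (Nat.cast_ne_zero.2 Nat.card_pos.ne'), one_mul]

theorem classInner_sec {f φ : G → ℂ} (hf : Invariant d f) (hφ : IsClassFunction G φ) :
    classInner (sec d f) φ =
      (Nat.card d.N : ℂ)⁻¹ * ∑ v ∈ ZStar.oddCentralizing J, f v * conj (φ (J * v)) := by
  classical
  have hcl : IsClassFunction G (fun g => sec d f g * conj (φ g)) := fun g a => by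
    simp only [isClassFunction_sec f g a, hφ g a]
  have h := ZStar.sum_twoSection (u := J) ⟨1, by rw [d.hJ, pow_one]⟩ hcl
  rw [classInner, ← Finset.sum_subset (Finset.subset_univ (ZStar.twoSection J))
    (fun g _ hg => by rw [sec_eq_zero hg, zero_mul]), h,
    Finset.sum_congr rfl fun v hv => by rw [sec_coset hf ((mem_odd (d := d)).1 hv), mul_assoc],
    ← Finset.mul_sum]
  have h2 := Subgroup.card_mul_index (Subgroup.centralizer ({J} : Set G))
  rw [d.card_centralizer_J] at h2
  have hi : ((Subgroup.centralizer ({J} : Set G)).index : ℂ) ≠ 0 :=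
    Nat.cast_ne_zero.2 Subgroup.index_ne_zero_of_finite
  rw [← h2]
  push_cast
  field_simp [odd_ne_zero d]

namespace Moved

variable (M : Moved d)

/-- The three class functions. -/
noncomputable def A (j : Fin 3) : G → ℂ := sec d (M.th j)

theorem invariant_th (j : Fin 3) : Invariant d (M.th j) := fun _ _ hc hv => M.th_conj j hc hv

theorem classInner_A (j : Fin 3) {φ : G → ℂ} (hφ : IsClassFunction G φ) :
    classInner (M.A j) φ =
      (Nat.card d.N : ℂ)⁻¹ * ∑ v ∈ ZStar.oddCentralizing J, M.th j v * conj (φ (J * v)) :=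
  classInner_sec (M.invariant_th j) hφ

theorem classInner_A_A (j k : Fin 3) : classInner (M.A j) (M.A k) = if j = k then 4 else 0 := by
  classical
  have e : ∀ v ∈ ZStar.oddCentralizing J,
      M.th j v * conj (M.A k (J * v)) = 4 * (M.th j v * conj (M.th k v)) := fun v hv => by
    rw [A, sec_coset (M.invariant_th k) ((mem_odd (d := d)).1 hv), map_mul, map_ofNat]; ring
  rw [M.classInner_A j (φ := M.A k) (isClassFunction_sec _), Finset.sum_congr rfl e, ← Finset.mul_sum, M.th_orth]
  split_ifs <;> simp [odd_ne_zero d, mul_comm]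

theorem exists_int_average (j : Fin 3) {χ : G → ℂ} (hχ : IsCharacter G χ) :
    ∃ n b : ℤ, classInner (M.A j) χ = n ∧ 2 ∣ n - b ∧
      ∑ v ∈ ZStar.oddCentralizing J, χ v * conj (M.th j v) = (b : ℂ) * (Nat.card d.N : ℂ) := by
  classical
  haveI := Fintype.ofFinite d.N
  obtain ⟨a, b, hb, ha⟩ := exists_average d hχ (M.θ j)
  refine ⟨2 * (a : ℤ) - b, b, ?_, ⟨a - b, by ring⟩, ?_⟩
  · have e : ∑ v : d.N, M.θ j v * conj (χ (J * v)) =
        conj ((2 * (a : ℂ) - b) * (Nat.card d.N : ℂ)) := by
      rw [← ha, map_sum]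
      exact Finset.sum_congr rfl fun v _ => by rw [map_mul, Complex.conj_conj, mul_comm]
    rw [M.classInner_A j (Char.IsCharacter.isClassFunction hχ),
      sum_odd d fun v => M.th j v * conj (χ (J * v))]
    simp only [th_coe]
    rw [e]
    simp only [map_mul, map_sub, map_natCast, map_ofNat]
    push_cast
    field_simp [odd_ne_zero d]
  · rw [sum_odd d fun v => χ v * conj (M.th j v)]
    simp only [th_coe]
    rw [hb]
    push_cast
    rfl

/-- Modulo two the average over `N` is the one over `N ∩ C(u)`. -/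
theorem exists_int_fixed [Fintype (fixedPart d)] (j : Fin 3) {χ : G → ℂ} (hχ : IsCharacter G χ)
    {b : ℤ} (hb : ∑ v ∈ ZStar.oddCentralizing J, χ v * conj (M.th j v) =
      (b : ℂ) * (Nat.card d.N : ℂ)) :
    ∃ c : ℤ, 2 ∣ b - c ∧
      ∑ y : fixedPart d, χ y * conj (M.th j y) = (c : ℂ) * (Nat.card (fixedPart d) : ℂ) := by
  classical
  haveI := Fintype.ofFinite (⊥ : Subgroup G)
  obtain ⟨c, hc⟩ := exists_nat_sum hχ (⊥ : Subgroup G) (fixedPart d)
    (fun k hk l _ => by rw [Subgroup.mem_bot.1 hk]; exact Commute.one_left l)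
    ((M.θ j).comp (Subgroup.inclusion inf_le_left))
  rw [← Finset.sum_subtype ({1} : Finset G) (fun x => by simp [Subgroup.mem_bot])
    (fun k => ∑ l : fixedPart d, χ (k * l) * conj ((M.θ j).comp (Subgroup.inclusion inf_le_left) l)),
    Finset.sum_singleton, Subgroup.card_bot] at hc
  have hc' : ∑ y : fixedPart d, χ y * conj (M.th j y) = (c : ℂ) * (Nat.card (fixedPart d) : ℂ) := by
    simp only [one_mul, Nat.cast_one] at hc
    rw [← hc]
    refine Finset.sum_congr rfl fun y _ => ?_
    rw [MonoidHom.comp_apply, ← M.th_coe, Subgroup.coe_inclusion]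
  refine ⟨c, ?_, by rw [hc']; push_cast; rfl⟩
  -- pair off the elements moved by `u`
  set σ : G → G := fun v => d.u * v * d.u⁻¹ with hσ
  have hσN : ∀ v ∈ ZStar.oddCentralizing J, σ v ∈ ZStar.oddCentralizing J := fun v hv =>
    (mem_odd (d := d)).2 (d.conjN d.u (d.comm J d.jmem d.u d.umem) v ((mem_odd (d := d)).1 hv))
  have hσσ : ∀ v, σ (σ v) = v := fun v => by
    have hu : d.u⁻¹ = d.u := inv_eq_of_mul_eq_one_right (d.sq d.u d.umem)
    simp only [hσ, hu]
    rw [show d.u * (d.u * v * d.u) * d.u = d.u * d.u * v * (d.u * d.u) by group,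
      d.sq d.u d.umem, one_mul, mul_one]
  set φ : G → ℂ := fun v => χ v * conj (M.th j v) with hφ
  have hinv : ∀ v ∈ ZStar.oddCentralizing J, φ (σ v) = φ v := fun v hv => by
    simp only [hφ, hσ]
    rw [M.th_conj j (d.comm J d.jmem d.u d.umem) ((mem_odd (d := d)).1 hv),
      Char.IsCharacter.isClassFunction hχ v d.u]
  obtain ⟨ι⟩ : Nonempty (G ≃ Fin (Fintype.card G)) := ⟨Fintype.equivFin G⟩
  set T := (ZStar.oddCentralizing J).filter fun v => ι v < ι (σ v)
  set T' := (ZStar.oddCentralizing J).filter fun v => ι (σ v) < ι v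
  set F := (ZStar.oddCentralizing J).filter fun v => σ v = v
  have hsplit : ∑ v ∈ ZStar.oddCentralizing J, φ v = ∑ v ∈ F, φ v + (∑ v ∈ T, φ v + ∑ v ∈ T', φ v) := by
    simp only [F, T, T', Finset.sum_filter, ← Finset.sum_add_distrib]
    refine Finset.sum_congr rfl fun v _ => ?_
    rcases lt_trichotomy (ι v) (ι (σ v)) with h | h | h
    · rw [if_neg (fun e => by rw [e] at h; exact lt_irrefl _ h), if_pos h, if_neg h.asymm]; ring
    · rw [if_pos (ι.injective h).symm, if_neg h.not_lt, if_neg h.not_gt]; ring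
    · rw [if_neg (fun e => by rw [e] at h; exact lt_irrefl _ h), if_neg h.asymm, if_pos h]; ring
  have hT : ∑ v ∈ T', φ v = ∑ v ∈ T, φ v := by
    refine Finset.sum_bij' (fun v _ => σ v) (fun v _ => σ v) ?_ ?_ (fun v _ => hσσ v)
      (fun v _ => hσσ v) (fun v hv => (hinv v (Finset.mem_filter.1 hv).1).symm)
    · intro v hv
      obtain ⟨h1, h2⟩ := Finset.mem_filter.1 hv
      exact Finset.mem_filter.2 ⟨hσN v h1, by rwa [hσσ]⟩
    · intro v hv
      obtain ⟨h1, h2⟩ := Finset.mem_filter.1 hv
      exact Finset.mem_filter.2 ⟨hσN v h1, by rwa [hσσ]⟩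
  have hF : ∑ v ∈ F, φ v = ∑ y : fixedPart d, φ y := by
    refine Finset.sum_subtype F (fun v => ?_) φ
    simp only [F, Finset.mem_filter, mem_odd (d := d), mem_fixedPart, hσ]
    exact and_congr_right fun _ => mul_inv_eq_iff_eq_mul
  rw [hF, hc', hT, hb, ← two_mul] at hsplit
  have hint : IsIntegral ℤ (∑ v ∈ T, φ v) := IsIntegral.sum _ fun v hv => by
    refine (CharInt.isIntegral_char hχ v).mul ?_
    have hvN := (mem_odd (d := d)).1 (Finset.mem_filter.1 hv).1
    rw [M.th_conj_eq_inv j hvN]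
    exact (CharInt.isIntegral_char (Char.irr_isCharacter (Char.linIrr (M.θ j))) _)
  have h2 : (2 : ℤ) ∣ b * (Nat.card d.N : ℤ) - (c : ℤ) * (Nat.card (fixedPart d) : ℤ) := by
    refine CharInt.dvd_of_isIntegral_div (p := 2) (by norm_num) ?_
    convert hint using 1
    push_cast
    rw [hsplit]
    ring
  obtain ⟨k, hk⟩ := d.oddN
  have hD : Odd (Nat.card (fixedPart d)) :=
    d.oddN.of_dvd_nat (Subgroup.card_dvd_of_le inf_le_left)
  obtain ⟨l, hl⟩ := hD
  obtain ⟨z, hz⟩ := h2
  rw [hk, hl] at hz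
  push_cast at hz
  exact ⟨z - b * k + (c : ℤ) * l, by linear_combination hz⟩

end Moved

end Cfsg.Agent.GW.KleinMoved
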