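import Cfsg.Agent.Lib.KleinBlock.Order
import Cfsg.Agent.Lib.Char.Linear
import Cfsg.Agent.Lib.CharInt.Congruence
import Cfsg.Agent.Lib.Char.Induction

/-!
# Three linear characters of the odd part of `C(J)` moved by an element of order three on a four group

`KleinBlock.Data J`, an element `r` permuting the involutions of the four group, and three distinct
linear characters of `N` invariant under the four group whose restrictions to `N ∩ C(u)` are
permuted by `r`.
-/

set_option autoImplicit false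
set_option linter.style.haveILetI false
set_option linter.unusedSectionVars false

namespace Cfsg.Agent.GW.KleinMoved

open Cfsg
open scoped ComplexConjugate

universe u

variable {G : Type u} [Group G] [Fintype G] {J : G}

/-- An element moving the four group and three linear characters moved by it. -/
structure Moved (d : KleinBlock.Data J) where
  r : G
  rJ : r * J * r⁻¹ = d.u
  ru : r * d.u * r⁻¹ = d.u * J
  θ : Fin 3 → (d.N →* ℂ)
  inv : ∀ j, ∀ v w : d.N, (w : G) = d.u * v * d.u⁻¹ → θ j w = θ j v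
  shift : ∀ j, ∀ y z : d.N, Commute d.u (y : G) → (z : G) = r * y * r⁻¹ → θ (j + 1) y = θ j z
  ne : Function.Injective θ

/-- `N ∩ C(u)`. -/
abbrev fixedPart (d : KleinBlock.Data J) : Subgroup G :=
  d.N ⊓ Subgroup.centralizer ({d.u} : Set G)

variable {d : KleinBlock.Data J}

theorem mem_fixedPart {y : G} : y ∈ fixedPart d ↔ y ∈ d.N ∧ Commute d.u y := by
  rw [fixedPart, Subgroup.mem_inf, Subgroup.mem_centralizer_singleton_iff]
  exact ⟨fun h => ⟨h.1, h.2.symm⟩, fun h => ⟨h.1, h.2.symm⟩⟩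

theorem mem_odd {v : G} : v ∈ ZStar.oddCentralizing J ↔ v ∈ d.N := by
  rw [ZStar.mem_oddCentralizing, d.mem_N]

theorem sum_odd (d : KleinBlock.Data J) [Fintype d.N] (f : G → ℂ) :
    ∑ v ∈ ZStar.oddCentralizing J, f v = ∑ v : d.N, f v :=
  Finset.sum_subtype _ (fun _ => mem_odd (d := d)) f

theorem odd_ne_zero (d : KleinBlock.Data J) : (Nat.card d.N : ℂ) ≠ 0 :=
  Nat.cast_ne_zero.2 Nat.card_pos.ne'

theorem commute_J {v : G} (hv : v ∈ d.N) : Commute J v := ((d.mem_N v).1 hv).1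

theorem jinv (d : KleinBlock.Data J) : J⁻¹ = J := inv_eq_of_mul_eq_one_right (d.sq J d.jmem)

/-- The sum over pairs for two commuting subgroups against a linear character of the second is a
multiple of the product of the orders. -/
theorem exists_nat_sum {χ : G → ℂ} (hχ : IsCharacter G χ) (K L : Subgroup G) [Fintype K]
    [Fintype L] (h : ∀ k ∈ K, ∀ l ∈ L, Commute k l) (f : L →* ℂ) :
    ∃ n : ℕ, ∑ k : K, ∑ l : L, χ ((k : G) * l) * conj (f l) =
      (n : ℂ) * ((Nat.card K : ℂ) * (Nat.card L : ℂ)) := by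
  let Φ : K × L →* G := MonoidHom.noncommCoprod K.subtype L.subtype fun k l => h k k.2 l l.2
  obtain ⟨n, hn⟩ := Char.IsCharacter.exists_nat_classInner (Char.IsCharacter.comp hχ Φ)
    (Char.irr_isCharacter (Char.linIrr (f.comp (MonoidHom.snd K L))))
  refine ⟨n, ?_⟩
  rw [← hn, classInner, Nat.card_prod, Nat.cast_mul, mul_comm _ ((Nat.card K : ℂ) * _), ← mul_assoc,
    mul_inv_cancel₀ (mul_ne_zero (Nat.cast_ne_zero.2 Nat.card_pos.ne')
      (Nat.cast_ne_zero.2 Nat.card_pos.ne')), one_mul, Fintype.sum_prod_type]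
  exact Finset.sum_congr rfl fun k _ => Finset.sum_congr rfl fun l _ => rfl

/-- The average against a linear character on the coset `J N` of a character is an integer,
congruent modulo two to the one on `N`. -/
theorem exists_average (d : KleinBlock.Data J) {χ : G → ℂ} (hχ : IsCharacter G χ) [Fintype d.N]
    (f : d.N →* ℂ) :
    ∃ a b : ℕ, ∑ v : d.N, χ v * conj (f v) = (b : ℂ) * (Nat.card d.N : ℂ) ∧
      ∑ v : d.N, χ (J * v) * conj (f v) = (2 * (a : ℂ) - b) * (Nat.card d.N : ℂ) := by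
  classical
  haveI := Fintype.ofFinite (⊥ : Subgroup G)
  haveI := Fintype.ofFinite (Subgroup.zpowers J)
  have hJ1 : (1 : G) ≠ J := fun h => by
    have := d.hJ
    rw [← h, orderOf_one] at this
    omega
  have hmem : ∀ x : G, x ∈ ({1, J} : Finset G) ↔ x ∈ Subgroup.zpowers J := fun x => by
    simp only [Finset.mem_insert, Finset.mem_singleton]
    constructor
    · rintro (rfl | rfl)
      · exact one_mem _
      · exact Subgroup.mem_zpowers _
    · rintro ⟨k, rfl⟩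
      change J ^ k = 1 ∨ J ^ k = J
      have h2 : J ^ (2 : ℤ) = 1 := by rw [zpow_two, d.sq J d.jmem]
      rcases Int.even_or_odd' k with ⟨i, rfl | rfl⟩
      · exact Or.inl (by rw [zpow_mul, h2, one_zpow])
      · exact Or.inr (by rw [zpow_add, zpow_mul, h2, one_zpow, one_mul, zpow_one])
  obtain ⟨b, hb⟩ := exists_nat_sum hχ (⊥ : Subgroup G) d.N
    (fun k hk l _ => by rw [Subgroup.mem_bot.1 hk]; exact Commute.one_left l) f
  obtain ⟨a, ha⟩ := exists_nat_sum hχ (Subgroup.zpowers J) d.N (fun k hk l hl => by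
    obtain ⟨i, rfl⟩ := hk
    exact (commute_J hl).zpow_left i) f
  rw [← Finset.sum_subtype ({1} : Finset G) (fun x => by simp [Subgroup.mem_bot])
    (fun k => ∑ l : d.N, χ (k * l) * conj (f l)), Finset.sum_singleton, Subgroup.card_bot] at hb
  rw [← Finset.sum_subtype ({1, J} : Finset G) hmem (fun k => ∑ l : d.N, χ (k * l) * conj (f l)),
    Finset.sum_pair hJ1, Nat.card_zpowers, d.hJ] at ha
  simp only [one_mul, Nat.cast_one] at hb
  simp only [one_mul] at ha
  refine ⟨a, b, hb, ?_⟩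
  push_cast at ha
  linear_combination ha - hb

namespace Moved

variable (M : Moved d)

open Classical in
/-- The characters, extended by zero. -/
noncomputable def th (j : Fin 3) (g : G) : ℂ := if h : g ∈ d.N then M.θ j ⟨g, h⟩ else 0

theorem th_coe (j : Fin 3) (v : d.N) : M.th j (v : G) = M.θ j v := by
  rw [th, dif_pos v.2]

theorem th_one (j : Fin 3) : M.th j 1 = 1 :=
  (M.th_coe j 1).trans (map_one _)

theorem th_mul (j : Fin 3) {v w : G} (hv : v ∈ d.N) (hw : w ∈ d.N) :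
    M.th j (v * w) = M.th j v * M.th j w :=
  (M.th_coe j (⟨v, hv⟩ * ⟨w, hw⟩)).trans (by rw [map_mul, ← M.th_coe, ← M.th_coe])

theorem conj_mul_th (j : Fin 3) {v : G} (hv : v ∈ d.N) : M.th j v * conj (M.th j v) = 1 := by
  have := Char.normSq_linear (M.θ j) ⟨v, hv⟩
  rwa [← M.th_coe] at this

theorem th_conj_eq_inv (j : Fin 3) {v : G} (hv : v ∈ d.N) :
    conj (M.th j v) = M.θ j (⟨v, hv⟩⁻¹) := by
  have h := M.conj_mul_th j hv
  rw [show M.th j v = M.θ j ⟨v, hv⟩ from M.th_coe j ⟨v, hv⟩] at h ⊢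
  exact mul_left_cancel₀ (left_ne_zero_of_mul_eq_one h) (h.trans (by rw [← map_mul, mul_inv_cancel, map_one]))

theorem th_ne_zero (j : Fin 3) {v : G} (hv : v ∈ d.N) : M.th j v ≠ 0 :=
  left_ne_zero_of_mul_eq_one (M.conj_mul_th j hv)

theorem th_eq_one_of_sq (j : Fin 3) {v : G} (hv : v ∈ d.N) (h : M.th j v ^ 2 = 1) :
    M.th j v = 1 := by
  have h1 : M.th j v ^ orderOf v = 1 := by
    rw [show v = ((⟨v, hv⟩ : d.N) : G) from rfl, M.th_coe, Subgroup.orderOf_coe, ← map_pow,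
      pow_orderOf_eq_one, map_one]
  have := pow_gcd_eq_one.2 ⟨h, h1⟩
  rwa [Nat.coprime_iff_gcd_eq_one.1 (Nat.coprime_two_left.2 (d.odd_of_mem hv)), pow_one] at this

theorem th_conj (M : Moved d) (j : Fin 3) {c v : G} (hc : Commute J c) (hv : v ∈ d.N) :
    M.th j (c * v * c⁻¹) = M.th j v := by
  obtain ⟨q, hq, w, hw, rfl⟩ := d.decomp c hc
  have hwv : w * v * w⁻¹ ∈ d.N := mul_mem (mul_mem hw hv) (d.N.inv_mem hw)
  have hu : ∀ x ∈ d.N, M.th j (d.u * x * d.u⁻¹) = M.th j x := fun x hx => by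
    have hm := d.conjN d.u (d.comm J d.jmem d.u d.umem) x hx
    exact ((M.th_coe j ⟨_, hm⟩).trans (M.inv j ⟨x, hx⟩ ⟨_, hm⟩ rfl)).trans (M.th_coe j ⟨x, hx⟩).symm
  have h1 : M.th j (w * v * w⁻¹) = M.th j v := by
    have e := (M.th_mul j hw (d.N.inv_mem hw))
    rw [mul_inv_cancel, th_one] at e
    rw [M.th_mul j (mul_mem hw hv) (d.N.inv_mem hw), M.th_mul j hw hv]
    linear_combination -(M.th j v) * e
  rw [show q * w * v * (q * w)⁻¹ = q * (w * v * w⁻¹) * q⁻¹ by group]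
  have hJ : ∀ x ∈ d.N, J * x * J⁻¹ = x := fun x hx => by
    rw [(commute_J hx).eq, mul_inv_cancel_right]
  rcases d.two q hq with e | e | e | e <;> rw [e]
  · rw [one_mul, inv_one, mul_one, h1]
  · rw [hJ _ hwv, h1]
  · rw [hu _ hwv, h1]
  · rw [show d.u * J * (w * v * w⁻¹) * (d.u * J)⁻¹ = d.u * (J * (w * v * w⁻¹) * J⁻¹) * d.u⁻¹ by group,
      hJ _ hwv, hu _ hwv, h1]

theorem th_eq_one_of_pair (M : Moved d) (j : Fin 3) {v x y : G} (hv : v ∈ d.N)
    (h : x * J * x⁻¹ * (y * J * y⁻¹) = J * v) : M.th j v = 1 := by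
  have hsq : ∀ z : G, z * J * z⁻¹ * (z * J * z⁻¹) = 1 := fun z => by
    rw [show z * J * z⁻¹ * (z * J * z⁻¹) = z * (J * J) * z⁻¹ by group, d.sq J d.jmem, mul_one,
      mul_inv_cancel]
  have hs2 := hsq x
  have ht2 := hsq y
  generalize x * J * x⁻¹ = s at h hs2
  generalize y * J * y⁻¹ = t at h ht2
  have hco : (Nat.card d.N).Coprime (orderOf J) := by
    rw [d.hJ]; exact Nat.coprime_two_right.2 d.oddN
  obtain ⟨n, hn⟩ := GlauCyclic.mul_pow_eq_self hco
  have hJv : (J * v) ^ n = J := by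
    rw [(commute_J hv).eq]
    exact hn v hv (commute_J hv).symm
  have h1 : s * (J * v) * s⁻¹ = (J * v)⁻¹ := by
    rw [← h, mul_inv_rev, inv_eq_of_mul_eq_one_right hs2, inv_eq_of_mul_eq_one_right ht2,
      ← mul_assoc s s t, hs2, one_mul]
  have h2 : s * J * s⁻¹ = J := by
    conv_lhs => rw [← hJv]
    rw [← conj_pow, h1, inv_pow, hJv, jinv d]
  have hsJ : Commute J s := (mul_inv_eq_iff_eq_mul.1 h2).symm
  have h3 : s * v * s⁻¹ = v⁻¹ := by
    rw [show s * (J * v) * s⁻¹ = s * J * s⁻¹ * (s * v * s⁻¹) by group, h2, mul_inv_rev, jinv d,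
      ← (commute_J (d.N.inv_mem hv)).eq] at h1
    exact mul_left_cancel h1
  have h4 := M.th_conj j hsJ hv
  rw [h3] at h4
  have h5 := M.th_mul j hv (d.N.inv_mem hv)
  rw [mul_inv_cancel, th_one, h4] at h5
  exact M.th_eq_one_of_sq j hv (by rw [pow_two, ← h5])

theorem th_shift (j : Fin 3) {y : G} (hy : y ∈ fixedPart d) (hz : M.r * y * M.r⁻¹ ∈ d.N) :
    M.th (j + 1) y = M.th j (M.r * y * M.r⁻¹) := by
  obtain ⟨hyN, hyu⟩ := mem_fixedPart.1 hy
  exact ((M.th_coe _ ⟨y, hyN⟩).trans (M.shift j ⟨y, hyN⟩ ⟨_, hz⟩ hyu rfl)).trans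
    (M.th_coe _ ⟨_, hz⟩).symm

/-- `r` normalises `N ∩ C(u)`. -/
theorem conj_mem_fixedPart {y : G} (hy : y ∈ fixedPart d) :
    M.r * y * M.r⁻¹ ∈ fixedPart d ∧ M.r⁻¹ * y * M.r ∈ fixedPart d := by
  obtain ⟨hyN, hyu⟩ := mem_fixedPart.1 hy
  have hyJ := commute_J hyN
  have hyv : Commute (d.u * J) y := hyu.mul_left hyJ
  have e1 : ∀ a : G, MulAut.conj M.r a = M.r * a * M.r⁻¹ := fun a => rfl
  have e2 : ∀ a : G, MulAut.conj M.r⁻¹ a = M.r⁻¹ * a * M.r := fun a => by
    rw [MulAut.conj_apply, inv_inv]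
  have a1 := hyJ.map (MulAut.conj M.r)
  have a2 := hyu.map (MulAut.conj M.r)
  rw [e1, e1, M.rJ] at a1
  rw [e1, e1, M.ru] at a2
  have hr1 : M.r⁻¹ * d.u * M.r = J := by rw [← M.rJ]; group
  have hr2 : M.r⁻¹ * (d.u * J) * M.r = d.u := by rw [← M.ru]; group
  have b1 := hyu.map (MulAut.conj M.r⁻¹)
  have b2 := hyv.map (MulAut.conj M.r⁻¹)
  rw [e2, e2, hr1] at b1
  rw [e2, e2, hr2] at b2
  have ho : ∀ c : G, Odd (orderOf (c * y * c⁻¹)) := fun c => by
    rw [← MulAut.conj_apply, MulEquiv.orderOf_eq]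
    exact d.odd_of_mem hyN
  refine ⟨mem_fixedPart.2 ⟨(d.mem_N _).2 ⟨?_, ho _⟩, a1⟩,
    mem_fixedPart.2 ⟨(d.mem_N _).2 ⟨b1, ?_⟩, b2⟩⟩
  · have h := a1.mul_left a2
    rwa [← mul_assoc, d.sq d.u d.umem, one_mul] at h
  · have := ho M.r⁻¹
    rwa [inv_inv] at this

theorem sum_fixed_conj [Fintype (fixedPart d)] (f : G → ℂ) :
    ∑ y : fixedPart d, f (M.r * y * M.r⁻¹) = ∑ y : fixedPart d, f y :=
  Fintype.sum_equiv
    { toFun := fun y => ⟨M.r * (y : G) * M.r⁻¹, (M.conj_mem_fixedPart y.2).1⟩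
      invFun := fun y => ⟨M.r⁻¹ * (y : G) * M.r, (M.conj_mem_fixedPart y.2).2⟩
      left_inv := fun y => Subtype.ext (by simp only; group)
      right_inv := fun y => Subtype.ext (by simp only; group) } _ _ fun _ => rfl

theorem th_orth (j k : Fin 3) :
    ∑ v ∈ ZStar.oddCentralizing J, M.th j v * conj (M.th k v) =
      if j = k then (Nat.card d.N : ℂ) else 0 := by
  classical
  haveI := Fintype.ofFinite d.N
  rw [sum_odd d fun v => M.th j v * conj (M.th k v)]
  have h := Char.classInner_irr (Char.linIrr (M.θ j)) (Char.linIrr (M.θ k))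
  simp only [classInner, Char.linIrr_apply] at h
  rw [inv_mul_eq_iff_eq_mul₀ (odd_ne_zero d)] at h
  simp only [th_coe, h, (Char.linIrr_injective).eq_iff, M.ne.eq_iff]
  split_ifs <;> simp

/-- Every element of `N` differs from one of `N ∩ C(u)` by one inverted by `u`. -/
theorem exists_fixed_th (M : Moved d) {v : G} (hv : v ∈ d.N) :
    ∃ y ∈ fixedPart d, ∀ j, M.th j v = M.th j y := by
  classical
  haveI := Fintype.ofFinite (d.InvolCoset d.u)
  haveI := Fintype.ofFinite (fixedPart d)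
  haveI := Fintype.ofFinite d.N
  have huinv : d.u⁻¹ = d.u := inv_eq_of_mul_eq_one_right (d.sq d.u d.umem)
  have hinv : ∀ x : d.InvolCoset d.u, d.u * (x.1 : G) * d.u⁻¹ = (x.1 : G)⁻¹ := fun x => by
    refine eq_inv_of_mul_eq_one_right ?_
    have := x.2
    rw [huinv]
    calc (x.1 : G) * (d.u * x.1 * d.u) = (x.1 : G) * d.u * ((x.1 : G) * d.u) := by group
      _ = 1 := this
  let f : d.InvolCoset d.u × fixedPart d → d.N := fun p =>
    ⟨(p.1.1 : G) * p.2, mul_mem p.1.1.2 (mem_fixedPart.1 p.2.2).1⟩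
  have hf : Function.Injective f := by
    rintro ⟨x, y⟩ ⟨x', y'⟩ h
    have h0 : (x.1 : G) * y = (x'.1 : G) * y' := congrArg Subtype.val h
    set c : G := (y : G) * (y' : G)⁻¹ with hc
    have hcD : c ∈ fixedPart d := mul_mem y.2 (inv_mem y'.2)
    have hx' : (x'.1 : G) = x.1 * c := by
      rw [hc, ← mul_assoc, h0, mul_inv_cancel_right]
    have hcu : d.u * c * d.u⁻¹ = c := by rw [(mem_fixedPart.1 hcD).2.eq, mul_inv_cancel_right]
    have h1 : (x.1 : G)⁻¹ * c = c⁻¹ * (x.1 : G)⁻¹ :=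
      calc (x.1 : G)⁻¹ * c = (d.u * x.1 * d.u⁻¹) * (d.u * c * d.u⁻¹) := by rw [hinv x, hcu]
        _ = d.u * (x'.1 : G) * d.u⁻¹ := by rw [hx']; group
        _ = _ := by rw [hinv x', hx', mul_inv_rev]
    have h2 : (x.1 : G) * c⁻¹ * (x.1 : G)⁻¹ = c := by
      rw [mul_assoc, ← h1, mul_inv_cancel_left]
    have h3 : Commute ((x.1 : G) ^ 2) c := by
      show (x.1 : G) ^ 2 * c = c * (x.1 : G) ^ 2
      have h4 : (x.1 : G) * c * (x.1 : G)⁻¹ = c⁻¹ := by
        have := congrArg (·⁻¹) h2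
        simpa [mul_assoc] using this
      calc (x.1 : G) ^ 2 * c = (x.1 : G) * ((x.1 : G) * c * (x.1 : G)⁻¹) * (x.1 : G)⁻¹ * (x.1 : G) ^ 2 := by
            rw [pow_two]; group
        _ = _ := by rw [h4, h2]
    obtain ⟨i, hi⟩ := d.odd_of_mem x.1.2
    have hx : Commute (x.1 : G) c := by
      have h5 : (x.1 : G) = ((x.1 : G) ^ 2) ^ (i + 1) := by
        rw [← pow_mul, show 2 * (i + 1) = orderOf (x.1 : G) + 1 by omega, pow_succ, pow_orderOf_eq_one,
          one_mul]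
      rw [h5]
      exact h3.pow_left _
    have h6 : c⁻¹ = c := by
      conv_rhs => rw [← h2]
      rw [hx.inv_right.eq, mul_inv_cancel_right]
    have hc1 : c = 1 := d.N_eq_one_of_sq (mem_fixedPart.1 hcD).1 (by
      nth_rewrite 1 [← h6]; rw [inv_mul_cancel])
    have hy : (y : G) = y' := by rwa [hc, mul_inv_eq_one] at hc1
    rw [hy, mul_left_inj] at h0
    exact Prod.ext (Subtype.ext (Subtype.ext h0)) (Subtype.ext hy)
  have hsurj : Function.Surjective f := ((Nat.bijective_iff_injective_and_card f).2 ⟨hf, by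
    rw [Nat.card_prod]; exact d.card_involCoset_mul d.umem⟩).2
  obtain ⟨⟨x, y⟩, hxy⟩ := hsurj ⟨v, hv⟩
  have hxy' : (x.1 : G) * y = v := congrArg Subtype.val hxy
  refine ⟨y, y.2, fun j => ?_⟩
  have h1 : M.th j ((x.1 : G)⁻¹) = M.th j x.1 := by
    rw [← hinv x, M.th_conj j (d.comm J d.jmem d.u d.umem) x.1.2]
  have h2 := M.th_mul j x.1.2 (d.N.inv_mem x.1.2)
  rw [mul_inv_cancel, th_one, h1] at h2
  rw [← hxy', M.th_mul j x.1.2 (mem_fixedPart.1 y.2).1, M.th_eq_one_of_sq j x.1.2 (by rw [pow_two, ← h2]),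
    one_mul]

theorem fixedPart_ne_bot (M : Moved d) : fixedPart d ≠ ⊥ := by
  intro h
  refine absurd (M.ne (a₁ := 0) (a₂ := 1) (MonoidHom.ext fun v => ?_)) (by decide)
  obtain ⟨y, hy, hj⟩ := M.exists_fixed_th v.2
  rw [h, Subgroup.mem_bot] at hy
  rw [← th_coe, ← th_coe, hj, hj, hy, th_one, th_one]

end Moved

end Cfsg.Agent.GW.KleinMoved
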