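import Cfsg.Agent.Lib.GW.KleinMoved.Section
import Cfsg.Agent.Lib.GW.KleinMoved.Arith

/-!
# The four characters carrying the three linear characters, their values on `J N`, and the count of
pairs of involutions weighted by one of the linear characters
-/

set_option autoImplicit false
set_option linter.style.haveILetI false
set_option linter.unusedSectionVars false

namespace Cfsg.Agent.GW.KleinMoved

open Cfsg
open scoped ComplexConjugate

universe u

variable {G : Type u} [Group G] [Fintype G] {J : G} {d : KleinBlock.Data J}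

namespace Moved

variable (M : Moved d)

/-- The multiplicities. -/
noncomputable def mult (j : Fin 3) (χ : IrrCharacter G) : ℤ :=
  (M.exists_int_average j (Char.irr_isCharacter χ)).choose

theorem classInner_A_irr (j : Fin 3) (χ : IrrCharacter G) :
    classInner (M.A j) χ.1 = (M.mult j χ : ℂ) :=
  (M.exists_int_average j (Char.irr_isCharacter χ)).choose_spec.choose_spec.1

theorem mult_parity (j : Fin 3) (χ : IrrCharacter G) :
    M.mult (j + 1) χ % 2 = M.mult j χ % 2 := by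
  classical
  haveI := Fintype.ofFinite (fixedPart d)
  obtain ⟨b, h1, h2, h3⟩ := (M.exists_int_average j (Char.irr_isCharacter χ)).choose_spec
  obtain ⟨b', k1, k2, k3⟩ := (M.exists_int_average (j + 1) (Char.irr_isCharacter χ)).choose_spec
  obtain ⟨c, c1, c2⟩ := M.exists_int_fixed j (Char.irr_isCharacter χ) h3
  obtain ⟨c', e1, e2⟩ := M.exists_int_fixed (j + 1) (Char.irr_isCharacter χ) k3
  have hsum : ∑ y : fixedPart d, χ.1 y * conj (M.th (j + 1) y) =
      ∑ y : fixedPart d, χ.1 y * conj (M.th j y) := by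
    rw [← M.sum_fixed_conj fun z => χ.1 z * conj (M.th j z)]
    refine Finset.sum_congr rfl fun y _ => ?_
    rw [M.th_shift j y.2 (mem_fixedPart.1 (M.conj_mem_fixedPart y.2).1).1, Blocks.irr_classFun χ]
  rw [e2, c2] at hsum
  have hcc : c' = c := by
    have := mul_right_cancel₀ (Nat.cast_ne_zero.2 Nat.card_pos.ne' :
      ((Nat.card (fixedPart d) : ℕ) : ℂ) ≠ 0) hsum
    exact_mod_cast this
  change 2 ∣ M.mult j χ - b at h2
  change 2 ∣ M.mult (j + 1) χ - b' at k2
  omega

theorem A_eq (j : Fin 3) (g : G) : M.A j g = ∑ χ : IrrCharacter G, (M.mult j χ : ℂ) * χ.1 g := by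
  have h : M.A j = ∑ χ : IrrCharacter G, classInner (M.A j) χ.1 • χ.1 :=
    Char.eq_sum_classInner_smul (isClassFunction_sec _)
  conv_lhs => rw [h]
  simp only [Finset.sum_apply, Pi.smul_apply, smul_eq_mul, M.classInner_A_irr]

theorem mult_orth (j k : Fin 3) :
    ∑ χ : IrrCharacter G, M.mult j χ * M.mult k χ = if j = k then 4 else 0 := by
  have h := M.classInner_A_A j k
  have hA : M.A j = ∑ χ : IrrCharacter G, (M.mult j χ : ℂ) • χ.1 := funext fun g => by
    simp only [M.A_eq, Finset.sum_apply, Pi.smul_apply, smul_eq_mul]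
  rw [hA, Char.classInner_sum_left] at h
  simp only [Char.classInner_smul_left] at h
  have e : ∀ χ : IrrCharacter G, classInner χ.1 (M.A k) = (M.mult k χ : ℂ) := fun χ => by
    rw [← Char.conj_classInner, M.classInner_A_irr, map_intCast]
  simp only [e] at h
  split_ifs at h ⊢ <;> exact_mod_cast h

theorem mult_degree (j : Fin 3) :
    ∑ χ : IrrCharacter G, M.mult j χ * (charDegree χ.1 : ℤ) = 0 := by
  have h := M.A_eq j 1
  rw [show M.A j 1 = 0 from sec_one _] at h
  have : ((∑ χ : IrrCharacter G, M.mult j χ * (charDegree χ.1 : ℤ) : ℤ) : ℂ) = 0 := by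
    push_cast
    rw [h]
    exact Finset.sum_congr rfl fun χ _ => by rw [Char.charDegree_cast]
  exact_mod_cast this

theorem exists_star :
    ∃ ε n : ℤ, (ε = 1 ∨ ε = -1) ∧
      (∀ χ, (M.mult 0 χ = 0 ∧ M.mult 1 χ = 0 ∧ M.mult 2 χ = 0) ∨
        ((M.mult 0 χ = 1 ∨ M.mult 0 χ = -1) ∧ (M.mult 1 χ = 1 ∨ M.mult 1 χ = -1) ∧
          (M.mult 2 χ = 1 ∨ M.mult 2 χ = -1) ∧
          M.mult 0 χ * M.mult 1 χ * M.mult 2 χ = ε ∧ (charDegree χ.1 : ℤ) = n)) ∧
      (∑ χ, M.mult 0 χ = 0 ∧ ∑ χ, M.mult 1 χ = 0 ∧ ∑ χ, M.mult 2 χ = 0) ∧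
      ∑ χ, M.mult 0 χ * M.mult 1 χ * M.mult 2 χ = 4 * ε ∧
      ∀ χ ψ, M.mult 0 χ ≠ 0 → M.mult 0 ψ ≠ 0 → χ ≠ ψ →
        M.mult 0 χ * M.mult 0 ψ + M.mult 1 χ * M.mult 1 ψ + M.mult 2 χ * M.mult 2 ψ = -1 := by
  classical
  refine star_of_orth (M.mult 0) (M.mult 1) (M.mult 2) (fun χ => (charDegree χ.1 : ℤ))
    (fun χ => by exact_mod_cast Char.charDegree_pos χ) (fun χ => ?_) ?_ ?_ ?_ ?_ ?_ ?_
    (M.mult_degree 0) (M.mult_degree 1) (M.mult_degree 2)
  · have h1 := M.mult_parity 0 χ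
    have h2 := M.mult_parity 1 χ
    rw [show (0 : Fin 3) + 1 = 1 from rfl] at h1
    rw [show (1 : Fin 3) + 1 = 2 from rfl] at h2
    exact ⟨h1.symm, (h2.trans h1).symm⟩
  all_goals first
    | exact (M.mult_orth _ _).trans (if_pos rfl)
    | exact (M.mult_orth _ _).trans (if_neg (by decide))

/-- A linear combination of the three vanishes away from the four characters, and each of the four
has the prescribed values on `J N`. -/
theorem apply_coset (χ : IrrCharacter G) (hχ : M.mult 0 χ ≠ 0) {v : G} (hv : v ∈ d.N) :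
    χ.1 (J * v) = (M.mult 0 χ : ℂ) * M.th 0 v + (M.mult 1 χ : ℂ) * M.th 1 v +
      (M.mult 2 χ : ℂ) * M.th 2 v := by
  classical
  obtain ⟨ε, n, hε, hcase, -, -, hK⟩ := M.exists_star
  set a := fun χ => (M.mult 0 χ : ℂ) with hadef
  set b := fun χ => (M.mult 1 χ : ℂ) with hbdef
  set c := fun χ => (M.mult 2 χ : ℂ) with hcdef
  have hsq : ∀ ψ, M.mult 0 ψ ≠ 0 →
      M.mult 0 ψ * M.mult 0 ψ + M.mult 1 ψ * M.mult 1 ψ + M.mult 2 ψ * M.mult 2 ψ = 3 := by
    intro ψ hψ
    rcases hcase ψ with ⟨h, -, -⟩ | ⟨h1, h2, h3, -, -⟩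
    · exact absurd h hψ
    · rcases h1 with e1 | e1 <;> rcases h2 with e2 | e2 <;> rcases h3 with e3 | e3 <;>
        rw [e1, e2, e3] <;> norm_num
  have hzero : ∀ ψ, M.mult 0 ψ = 0 → M.mult 1 ψ = 0 ∧ M.mult 2 ψ = 0 := by
    intro ψ hψ
    rcases hcase ψ with ⟨-, h⟩ | ⟨h1, -⟩
    · exact h
    · omega
  -- the coefficient of `ψ` in the projection of `φ`
  have key : ∀ φ, M.mult 0 φ ≠ 0 → ∀ ψ, a φ * a ψ + b φ * b ψ + c φ * c ψ =
      (if ψ = φ then (4 : ℂ) else 0) - (if M.mult 0 ψ = 0 then (0 : ℂ) else 1) := by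
    intro φ hφ ψ
    by_cases h0 : M.mult 0 ψ = 0
    · have : ψ ≠ φ := fun e => hφ (e ▸ h0)
      simp [hadef, hbdef, hcdef, h0, (hzero ψ h0).1, (hzero ψ h0).2, this]
    · by_cases he : ψ = φ
      · subst he
        rw [if_pos rfl, if_neg h0]
        have := hsq ψ h0
        simp only [hadef, hbdef, hcdef]
        rw [show (4 : ℂ) - 1 = ((3 : ℤ) : ℂ) by norm_num, ← this]
        push_cast
        rfl
      · rw [if_neg he, if_neg h0]
        have := hK φ ψ hφ h0 (Ne.symm he)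
        simp only [hadef, hbdef, hcdef]
        rw [show (0 : ℂ) - 1 = ((-1 : ℤ) : ℂ) by norm_num, ← this]
        push_cast
        rfl
  set R : IrrCharacter G → G → ℂ :=
    fun φ w => φ.1 (J * w) - (a φ * M.th 0 w + b φ * M.th 1 w + c φ * M.th 2 w) with hR
  -- all four differ from their projection by the same function
  have hsame : ∀ φ, M.mult 0 φ ≠ 0 → ∀ w ∈ d.N, R φ w =
      4⁻¹ * ∑ ψ, (if M.mult 0 ψ = 0 then (0 : ℂ) else 1) * ψ.1 (J * w) := by
    intro φ hφ w hw
    have h : a φ * M.A 0 (J * w) + b φ * M.A 1 (J * w) + c φ * M.A 2 (J * w) =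
        ∑ ψ, (a φ * a ψ + b φ * b ψ + c φ * c ψ) * ψ.1 (J * w) := by
      simp only [M.A_eq, Finset.mul_sum, ← Finset.sum_add_distrib]
      exact Finset.sum_congr rfl fun ψ _ => by ring
    simp only [key φ hφ, sub_mul, Finset.sum_sub_distrib, ite_mul, zero_mul,
      Finset.sum_ite_eq', Finset.mem_univ, if_true] at h
    rw [show M.A 0 = sec d (M.th 0) from rfl, show M.A 1 = sec d (M.th 1) from rfl,
      show M.A 2 = sec d (M.th 2) from rfl, sec_coset (M.invariant_th 0) hw,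
      sec_coset (M.invariant_th 1) hw, sec_coset (M.invariant_th 2) hw] at h
    simp only [hR, ite_mul, zero_mul, one_mul] at h ⊢
    linear_combination (-(1 : ℂ) / 4) * h
  suffices hR0 : R χ v = 0 by
    simp only [hR, hadef, hbdef, hcdef] at hR0
    linear_combination hR0
  set o : ℂ := (Nat.card d.N : ℂ) with ho
  have ho0 : o ≠ 0 := odd_ne_zero d
  have horth : ∀ j, ∑ w ∈ ZStar.oddCentralizing J, R χ w * conj (M.th j w) = 0 := by
    intro j
    have h1 : ∑ w ∈ ZStar.oddCentralizing J, χ.1 (J * w) * conj (M.th j w) = (M.mult j χ : ℂ) * o := by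
      have h := M.classInner_A j (Blocks.irr_classFun χ)
      rw [M.classInner_A_irr, eq_comm, inv_mul_eq_iff_eq_mul₀ ho0] at h
      have h' := congrArg conj h
      rw [map_sum, map_mul, map_intCast, map_natCast] at h'
      rw [mul_comm, ← h']
      exact Finset.sum_congr rfl fun w _ => by rw [map_mul, Complex.conj_conj, mul_comm]
    simp only [hR, sub_mul, add_mul, mul_assoc, Finset.sum_sub_distrib, Finset.sum_add_distrib,
      ← Finset.mul_sum, M.th_orth, h1]
    fin_cases j <;> simp [hadef, hbdef, hcdef, ho]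
  set Gm := ∑ w ∈ ZStar.oddCentralizing J, R χ w * conj (R χ w) with hGm
  -- inner products on `J N`
  have hinner : ∀ φ, M.mult 0 φ ≠ 0 →
      ∑ w ∈ ZStar.oddCentralizing J, χ.1 (J * w) * conj (φ.1 (J * w)) =
        (a χ * a φ + b χ * b φ + c χ * c φ) * o + Gm := by
    intro φ hφ
    have e : ∀ w ∈ ZStar.oddCentralizing J, χ.1 (J * w) * conj (φ.1 (J * w)) =
        (a χ * M.th 0 w + b χ * M.th 1 w + c χ * M.th 2 w) *
            conj (a φ * M.th 0 w + b φ * M.th 1 w + c φ * M.th 2 w) +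
          (a χ * conj (R χ w * conj (M.th 0 w)) + b χ * conj (R χ w * conj (M.th 1 w)) +
            c χ * conj (R χ w * conj (M.th 2 w))) +
          (a φ * (R χ w * conj (M.th 0 w)) + b φ * (R χ w * conj (M.th 1 w)) +
            c φ * (R χ w * conj (M.th 2 w))) + R χ w * conj (R χ w) := by
      intro w hw
      have hw' := (mem_odd (d := d)).1 hw
      have hRR : R φ w = R χ w := (hsame φ hφ w hw').trans (hsame χ hχ w hw').symm
      have h1 : χ.1 (J * w) = (a χ * M.th 0 w + b χ * M.th 1 w + c χ * M.th 2 w) + R χ w := by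
        simp only [hR]; ring
      have h2 : φ.1 (J * w) = (a φ * M.th 0 w + b φ * M.th 1 w + c φ * M.th 2 w) + R χ w := by
        rw [← hRR]; simp only [hR]; ring
      rw [h1, h2]
      simp only [map_add, map_mul, Complex.conj_conj, hadef, hbdef, hcdef, map_intCast]
      ring
    have e2 : ∀ w, (a χ * M.th 0 w + b χ * M.th 1 w + c χ * M.th 2 w) *
        conj (a φ * M.th 0 w + b φ * M.th 1 w + c φ * M.th 2 w) =
        a χ * a φ * (M.th 0 w * conj (M.th 0 w)) + a χ * b φ * (M.th 0 w * conj (M.th 1 w)) +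
        a χ * c φ * (M.th 0 w * conj (M.th 2 w)) + b χ * a φ * (M.th 1 w * conj (M.th 0 w)) +
        b χ * b φ * (M.th 1 w * conj (M.th 1 w)) + b χ * c φ * (M.th 1 w * conj (M.th 2 w)) +
        c χ * a φ * (M.th 2 w * conj (M.th 0 w)) + c χ * b φ * (M.th 2 w * conj (M.th 1 w)) +
        c χ * c φ * (M.th 2 w * conj (M.th 2 w)) := fun w => by
      simp only [map_add, map_mul, hadef, hbdef, hcdef, map_intCast]; ring
    simp only [Finset.sum_congr rfl e, e2, Finset.sum_add_distrib, ← Finset.mul_sum, ← map_sum,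
      M.th_orth, horth, map_zero, mul_zero, add_zero, ← hGm, ← ho]
    simp only [if_true, if_neg (by decide : (0 : Fin 3) ≠ 1), if_neg (by decide : (0 : Fin 3) ≠ 2),
      if_neg (by decide : (1 : Fin 3) ≠ 0), if_neg (by decide : (1 : Fin 3) ≠ 2),
      if_neg (by decide : (2 : Fin 3) ≠ 0), if_neg (by decide : (2 : Fin 3) ≠ 1)]
    ring
  -- integrality of the inner products
  haveI := Fintype.ofFinite d.N
  have hint : ∀ φ : IrrCharacter G, ∃ k : ℤ,
      ∑ w ∈ ZStar.oddCentralizing J, χ.1 (J * w) * conj (φ.1 (J * w)) = (k : ℂ) * o := by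
    intro φ
    obtain ⟨s, t, -, hs⟩ := exists_average d (Char.IsCharacter.mul (Char.irr_isCharacter χ)
      (Char.IsCharacter.conj (Char.irr_isCharacter φ))) (1 : d.N →* ℂ)
    refine ⟨2 * (s : ℤ) - t, ?_⟩
    rw [sum_odd d fun w => χ.1 (J * w) * conj (φ.1 (J * w))]
    simp only [MonoidHom.one_apply, map_one, mul_one, Pi.mul_apply] at hs
    rw [hs]
    push_cast
    rfl
  choose k hk using hint
  set H := sec d fun w => χ.1 (J * w) with hH
  have hHinv : Invariant d fun w => χ.1 (J * w) := fun z w hz hw => by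
    show χ.1 (J * (z * w * z⁻¹)) = χ.1 (J * w)
    rw [show J * (z * w * z⁻¹) = z * (J * w) * z⁻¹ by
      rw [← mul_assoc J, ← mul_assoc J z, hz.eq]; group, Blocks.irr_classFun χ]
  have hcoef : ∀ φ : IrrCharacter G, classInner H φ.1 = (k φ : ℂ) := fun φ => by
    rw [hH, classInner_sec hHinv (Blocks.irr_classFun φ), hk, mul_comm (k φ : ℂ), ← mul_assoc,
      inv_mul_cancel₀ ho0, one_mul]
  have hHsum : H = ∑ φ, (k φ : ℂ) • φ.1 := by
    conv_lhs => rw [Char.eq_sum_classInner_smul (f := H) (isClassFunction_sec _)]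
    exact Finset.sum_congr rfl fun φ _ => by rw [hcoef]
  have hnorm : ∑ φ, k φ ^ 2 = 4 * k χ := by
    have h := Char.IsGeneralizedCharacter.classInner_self_eq_sum hHsum
    rw [hH, classInner_sec hHinv (isClassFunction_sec _)] at h
    rw [Finset.sum_congr rfl (g := fun w => 4 * (χ.1 (J * w) * conj (χ.1 (J * w)))) (fun w hw => by
      rw [sec_coset hHinv ((mem_odd (d := d)).1 hw), map_mul, map_ofNat]; ring),
      ← Finset.mul_sum, hk, show ∀ z : ℂ, o⁻¹ * (4 * (z * o)) = 4 * z from fun z => by field_simp] at h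
    exact_mod_cast h.symm
  have hGk : Gm = ((k χ - 3 : ℤ) : ℂ) * o := by
    have h := hinner χ hχ
    rw [hk, key χ hχ χ, if_pos rfl, if_neg hχ] at h
    push_cast
    linear_combination -h
  have hother : ∀ φ, M.mult 0 φ ≠ 0 → φ ≠ χ → k φ = k χ - 4 := by
    intro φ hφ hne
    have h := hinner φ hφ
    rw [hk, hGk, key χ hχ φ, if_neg hne, if_neg hφ] at h
    have : ((k φ : ℤ) : ℂ) = ((k χ - 4 : ℤ) : ℂ) := by
      apply mul_right_cancel₀ ho0
      push_cast at h ⊢
      linear_combination h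
    exact_mod_cast this
  -- the four
  set T := Finset.univ.filter fun φ : IrrCharacter G => M.mult 0 φ ≠ 0 with hT
  have hTcard : T.card = 4 := by
    have h := M.mult_orth 0 0
    rw [if_pos rfl, ← Finset.sum_subset (Finset.subset_univ T) (fun φ _ hn => by
      simp only [hT, Finset.mem_filter, Finset.mem_univ, true_and, not_not] at hn
      rw [hn, mul_zero]), Finset.sum_congr rfl (g := fun _ => (1 : ℤ)) (fun φ hφ => by
      rcases hcase φ with ⟨h0, -⟩ | ⟨h1, -⟩
      · exact absurd h0 (Finset.mem_filter.1 hφ).2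
      · rcases h1 with e | e <;> rw [e] <;> norm_num), Finset.sum_const, nsmul_eq_mul, mul_one] at h
    exact_mod_cast h
  have hχT : χ ∈ T := Finset.mem_filter.2 ⟨Finset.mem_univ _, hχ⟩
  have hTsum : ∑ φ ∈ T, k φ ^ 2 = k χ ^ 2 + 3 * (k χ - 4) ^ 2 := by
    rw [← Finset.add_sum_erase _ _ hχT, Finset.sum_congr rfl (g := fun _ => (k χ - 4) ^ 2)
      (fun φ hφ => by rw [hother φ (Finset.mem_filter.1 (Finset.mem_of_mem_erase hφ)).2
        (Finset.ne_of_mem_erase hφ)]), Finset.sum_const, Finset.card_erase_of_mem hχT, hTcard]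
    norm_num
  have hsplit : k χ ^ 2 + 3 * (k χ - 4) ^ 2 + ∑ φ ∈ Tᶜ, k φ ^ 2 = 4 * k χ := by
    rw [← hTsum, Finset.sum_add_sum_compl, hnorm]
  have hcn : 0 ≤ ∑ φ ∈ Tᶜ, k φ ^ 2 := Finset.sum_nonneg fun φ _ => sq_nonneg _
  have hk34 : k χ = 3 ∨ k χ = 4 := by
    have h' : (k χ - 3) * (k χ - 4) ≤ 0 := by nlinarith
    by_contra hne
    rcases (by omega : k χ ≤ 2 ∨ 5 ≤ k χ) with h | h <;> nlinarith
  rcases hk34 with h3 | h4
  · have hG0 : Gm = 0 := by rw [hGk, h3]; norm_num
    have hre : ∑ w ∈ ZStar.oddCentralizing J, Complex.normSq (R χ w) = 0 := by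
      have : ((∑ w ∈ ZStar.oddCentralizing J, Complex.normSq (R χ w) : ℝ) : ℂ) = 0 := by
        rw [Complex.ofReal_sum, ← hG0, hGm]
        exact Finset.sum_congr rfl fun w _ => (Complex.mul_conj _).symm
      exact_mod_cast this
    exact Complex.normSq_eq_zero.1 ((Finset.sum_eq_zero_iff_of_nonneg
      fun w _ => Complex.normSq_nonneg _).1 hre v ((mem_odd (d := d)).2 hv))
  · exfalso
    have hout : ∀ φ ∈ Tᶜ, k φ = 0 := by
      have h0 : ∑ φ ∈ Tᶜ, k φ ^ 2 = 0 := by rw [h4] at hsplit; omega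
      exact fun φ hφ => sq_eq_zero_iff.1
        ((Finset.sum_eq_zero_iff_of_nonneg fun φ _ => sq_nonneg (k φ)).1 h0 φ hφ)
    have hone := congrFun hHsum 1
    rw [hH, sec_one, Finset.sum_apply, Finset.sum_eq_single χ (fun φ _ hne => ?_) (by simp),
      Pi.smul_apply, smul_eq_mul, h4, ← Char.charDegree_cast] at hone
    · have := Char.charDegree_pos χ
      have : (4 : ℂ) * (charDegree χ.1 : ℂ) ≠ 0 :=
        mul_ne_zero (by norm_num) (Nat.cast_ne_zero.2 this.ne')
      exact this (by exact_mod_cast hone.symm)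
    · have : k φ = 0 := by
        by_cases hφ : M.mult 0 φ = 0
        · exact hout φ (Finset.mem_compl.2 fun h => (Finset.mem_filter.1 h).2 hφ)
        · rw [hother φ hφ hne, h4]; norm_num
      rw [Pi.smul_apply, this, Int.cast_zero, zero_smul]

/-- The weighted count of pairs of involutions with product in `J N`, and the congruence. -/
theorem exists_degree (M : Moved d) : ∃ (ε n : ℤ), (ε = 1 ∨ ε = -1) ∧ 0 < n ∧ 4 ∣ n + ε ∧
    ((Nat.card (Subgroup.centralizer ({J} : Set G)) ^ 2 * Nat.card d.InvolPair : ℕ) : ℂ) * n =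
      (Nat.card G : ℂ) * (Nat.card d.N : ℂ) * (8 * ε) := by
  classical
  obtain ⟨ε, n, hε, hcase, ⟨hs0, hs1, hs2⟩, he, -⟩ := M.exists_star
  obtain ⟨χ₀, hχ₀⟩ : ∃ χ, M.mult 0 χ ≠ 0 := by
    by_contra h
    push Not at h
    have := M.mult_orth 0 0
    simp [h] at this
  have hJval : ∀ χ, M.mult 0 χ ≠ 0 →
      χ.1 J = (((M.mult 0 χ + M.mult 1 χ + M.mult 2 χ : ℤ)) : ℂ) := fun χ h => by
    have := M.apply_coset χ h (v := 1) d.N.one_mem
    rw [mul_one, th_one, th_one, th_one, mul_one, mul_one, mul_one] at this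
    rw [this]
    push_cast
    rfl
  obtain ⟨h1', h2', h3', hprod, hdeg⟩ := (hcase χ₀).resolve_left fun h => hχ₀ h.1
  have hn : 0 < n := by rw [← hdeg]; exact_mod_cast Char.charDegree_pos χ₀
  refine ⟨ε, n, hε, hn, ?_, ?_⟩
  · -- the multiplicity of the trivial character of the four group
    haveI := Fintype.ofFinite d.P
    haveI := Fintype.ofFinite (⊥ : Subgroup G)
    obtain ⟨m, hm⟩ := exists_nat_sum (Char.irr_isCharacter χ₀) d.P ⊥
      (fun k _ l hl => by rw [Subgroup.mem_bot.1 hl]; exact Commute.one_right k) 1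
    simp only [MonoidHom.one_apply, map_one, mul_one, Subgroup.card_bot, Nat.cast_one] at hm
    have hbot : ∀ k : G, ∑ l : (⊥ : Subgroup G), χ₀.1 (k * l) = χ₀.1 k := fun k => by
      rw [← Finset.sum_subtype ({1} : Finset G) (fun x => by simp [Subgroup.mem_bot])
        (fun l => χ₀.1 (k * l)), Finset.sum_singleton, mul_one]
    simp only [hbot, d.cardP] at hm
    have hJ1 : J ≠ 1 := fun h => by have := d.hJ; rw [h, orderOf_one] at this; omega
    have hmem : ∀ x : G, x ∈ ({1, J, d.u, d.u * J} : Finset G) ↔ x ∈ d.P := fun x => by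
      simp only [Finset.mem_insert, Finset.mem_singleton]
      refine ⟨?_, d.two x⟩
      rintro (rfl | rfl | rfl | rfl)
      exacts [one_mem _, d.jmem, d.umem, mul_mem d.umem d.jmem]
    have hv : ∀ g : G, χ₀.1 (M.r * g * M.r⁻¹) = χ₀.1 g := fun g => Blocks.irr_classFun χ₀ g M.r
    have e1 : (1 : G) ∉ ({J, d.u, d.u * J} : Finset G) := by
      simp [Ne.symm hJ1, Ne.symm d.u_ne_one, Ne.symm d.uJ_ne_one]
    have e2 : J ∉ ({d.u, d.u * J} : Finset G) := by simp [d.ju, d.u_ne_one]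
    have e3 : d.u ≠ d.u * J := fun h => hJ1 (mul_eq_left.1 h.symm)
    rw [← Finset.sum_subtype _ hmem χ₀.1, Finset.sum_insert e1, Finset.sum_insert e2,
      Finset.sum_pair e3] at hm
    rw [show χ₀.1 (d.u * J) = χ₀.1 d.u by rw [← M.ru, hv],
      show χ₀.1 d.u = χ₀.1 J by rw [← M.rJ, hv], hJval χ₀ hχ₀, ← Char.charDegree_cast] at hm
    have hz : (charDegree χ₀.1 : ℤ) + 3 * (M.mult 0 χ₀ + M.mult 1 χ₀ + M.mult 2 χ₀) = 4 * (m : ℤ) := by
      have h : (((charDegree χ₀.1 : ℤ) + 3 * (M.mult 0 χ₀ + M.mult 1 χ₀ + M.mult 2 χ₀) : ℤ) : ℂ) =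
          ((4 * (m : ℤ) : ℤ) : ℂ) := by
        push_cast at hm ⊢
        linear_combination hm
      exact_mod_cast h
    rw [hdeg] at hz
    rcases h1' with f1 | f1 <;> rcases h2' with f2 | f2 <;> rcases h3' with f3 | f3 <;>
      rw [f1, f2, f3] at hprod hz <;> omega
  · set S := ∑ v ∈ ZStar.oddCentralizing J, M.th 0 v *
      (Nat.card {p : G × G // p.1 * J * p.1⁻¹ * (p.2 * J * p.2⁻¹) = J * v} : ℂ) with hS
    have hleft : S = ((Nat.card (Subgroup.centralizer ({J} : Set G)) ^ 2 *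
        Nat.card d.InvolPair : ℕ) : ℂ) := by
      rw [← d.sum_card_pairs, Nat.cast_sum, hS]
      refine Finset.sum_congr rfl fun v hv => ?_
      rcases Nat.eq_zero_or_pos
          (Nat.card {p : G × G // p.1 * J * p.1⁻¹ * (p.2 * J * p.2⁻¹) = J * v}) with h0 | h0
      · rw [h0, Nat.cast_zero, mul_zero]
      · obtain ⟨⟨⟨⟨x, y⟩, hxy⟩⟩, -⟩ := Nat.card_pos_iff.1 h0
        rw [M.th_eq_one_of_pair 0 ((mem_odd (d := d)).1 hv) hxy, one_mul]
    have hright : S = (Nat.card G : ℂ) * ∑ χ : IrrCharacter G,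
        χ.1 J * χ.1 J * ((M.mult 0 χ : ℂ) * (Nat.card d.N : ℂ)) / χ.1 1 := by
      rw [hS, Finset.mul_sum]
      simp only [Char.card_conj_mul_conj_eq, Finset.mul_sum]
      rw [Finset.sum_comm]
      refine Finset.sum_congr rfl fun χ _ => ?_
      have h := M.classInner_A 0 (Blocks.irr_classFun χ)
      rw [M.classInner_A_irr, eq_comm, inv_mul_eq_iff_eq_mul₀ (odd_ne_zero d)] at h
      rw [mul_comm (M.mult 0 χ : ℂ), ← h]
      simp only [Finset.mul_sum, Finset.sum_div, Char.IsCharacter.conj_apply (Char.irr_isCharacter χ)]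
      exact Finset.sum_congr rfl fun v _ => by ring
    have hterm : ∀ χ : IrrCharacter G, χ.1 J * χ.1 J * ((M.mult 0 χ : ℂ) * (Nat.card d.N : ℂ)) / χ.1 1 =
        (Nat.card d.N : ℂ) / (n : ℂ) * ((3 * M.mult 0 χ + 2 * M.mult 1 χ + 2 * M.mult 2 χ +
          2 * (M.mult 0 χ * M.mult 1 χ * M.mult 2 χ) : ℤ) : ℂ) := by
      intro χ
      rcases hcase χ with ⟨g0, g1, g2⟩ | ⟨g0, g1, g2, -, g4⟩
      · simp [g0, g1, g2]
      · have hne : M.mult 0 χ ≠ 0 := by omega
        rw [hJval χ hne, ← Char.charDegree_cast, show (charDegree χ.1 : ℂ) = (n : ℂ) by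
          rw [← g4]; push_cast; rfl]
        rcases g0 with f0 | f0 <;> rcases g1 with f1 | f1 <;> rcases g2 with f2 | f2 <;>
          rw [f0, f1, f2] <;> norm_num <;> ring
    rw [Finset.sum_congr rfl fun χ _ => hterm χ, ← Finset.mul_sum, ← Int.cast_sum,
      Finset.sum_add_distrib, Finset.sum_add_distrib, Finset.sum_add_distrib, ← Finset.mul_sum,
      ← Finset.mul_sum, ← Finset.mul_sum, ← Finset.mul_sum, hs0, hs1, hs2, he, hleft] at hright
    rw [hright]
    have hn' : (n : ℂ) ≠ 0 := by exact_mod_cast hn.ne'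
    push_cast
    field_simp
    ring

end Moved

end Cfsg.Agent.GW.KleinMoved
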